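import Cfsg.Agent.Lib.TCX.Cert

/-! Auxiliary letters, derived relators, and the use of a model in coset enumeration certificates. -/

set_option autoImplicit false

namespace Cfsg.Agent.TCX

open Cfsg.Agent.CG

/-- The words `W` vanish in every group in which the words `R` vanish. -/
def Imp (R W : List (List ℕ)) : Prop :=
  ∀ (Γ : Type) [Group Γ] (y : ℕ → Γ), (∀ r ∈ R, ev y r = 1) → ∀ w ∈ W, ev y w = 1

theorem Imp.trans {R W V : List (List ℕ)} (h : Imp R W) (h' : Imp W V) : Imp R V :=
  fun Γ _ y hR => h' Γ y (h Γ y hR)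

theorem Mem.imp {R W : List (List ℕ)} (h : Mem R [] W) : Imp R W := fun Γ _ y hR w hw => by
  have := h Γ y hR w hw
  rwa [cl_nil, Subgroup.mem_bot] at this

theorem Imp.append {R W V : List (List ℕ)} (h : Imp R W) (h' : Imp R V) : Imp R (W ++ V) :=
  fun Γ _ y hR w hw => (List.mem_append.1 hw).elim (h Γ y hR w) (h' Γ y hR w)

theorem Imp.refl (R : List (List ℕ)) : Imp R R := fun _ _ _ h => h

theorem Imp.bounds {R R0 : List (List ℕ)} {S : List ℕ} {N : ℕ} (h : Imp R0 R) (hb : Bounds R S N) : Bounds R0 S N :=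
  fun Γ _ y hR => hb Γ y (h Γ y hR)

theorem imp_of_ders {R R0 : List (List ℕ)} {n : ℕ} {inv : ℕ → ℕ} {hs : List (ℕ × Bool × List ℕ)}
    (h1 : dersChk inv R0 R hs = true) (h2 : ∀ a, n ≤ a → n ≤ inv a)
    (h3 : allLt (fun a => band (blt (inv a) n) (bor (anyL (eqL [a, inv a]) R0) (anyL (eqL [inv a, a]) R0))) n = true)
    (h4 : allL (allL fun a => blt a n) R0 = true) (h5 : allL (allL fun a => blt a n) R = true) : Imp R0 R := by
  intro Γ _ y hR
  let y' : ℕ → Γ := fun a => if a < n then y a else 1
  have hinv : ∀ a, y' (inv a) = (y' a)⁻¹ := by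
    intro a
    by_cases ha : a < n
    · have := (allLt_iff _ _).1 h3 a ha
      rw [band_eq, blt_iff, bor_eq, anyL_iff, anyL_iff] at this
      simp only [y', if_pos ha, if_pos this.1]
      rcases this.2 with ⟨r, hr, e⟩ | ⟨r, hr, e⟩
      · have h6 := hR r hr
        rw [← (eqL_iff _ _).1 e] at h6
        exact eq_inv_of_mul_eq_one_right (by simpa using h6)
      · have h6 := hR r hr
        rw [← (eqL_iff _ _).1 e] at h6
        exact eq_inv_of_mul_eq_one_left (by simpa using h6)
    · simp only [y', if_neg ha, if_neg (not_lt.2 (h2 a (not_lt.1 ha))), inv_one]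
  have e : ∀ {L : List (List ℕ)}, allL (allL fun a => blt a n) L = true → ∀ r ∈ L, ev y' r = ev y r :=
    fun h r hr => ev_congr _ fun a ha => if_pos ((blt_iff _ _).1 ((allL_iff _ _).1 ((allL_iff _ _).1 h r hr) a ha))
  intro r hr
  rw [← e h5 r hr]
  exact ders_sound hinv (fun r hr => (e h4 r hr).trans (hR r hr)) h1 r hr

/-- Substitution of the words `D` for the letters. -/
noncomputable def subst (D : List (List ℕ)) (v : List ℕ) : List ℕ :=
  List.rec (motive := fun _ => List ℕ) [] (fun a _ ih => app2 (nth D [] a) ih) v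

/-- The values of the words `D`. -/
noncomputable def ext {Γ : Type*} [Monoid Γ] (y : ℕ → Γ) (D : List (List ℕ)) (a : ℕ) : Γ := ev y (nth D [] a)

theorem ev_subst {Γ : Type*} [Monoid Γ] (y : ℕ → Γ) (D : List (List ℕ)) (v : List ℕ) :
    ev y (subst D v) = ev (ext y D) v := by
  induction v with
  | nil => rfl
  | cons a v ih =>
    have e : subst D (a :: v) = app2 (nth D [] a) (subst D v) := rfl
    rw [e, app2_eq, ev_append, ih, ev_cons, ext]

/-- The list `W` is the list `R` after the substitution. -/
noncomputable def substChk (D R W : List (List ℕ)) : Bool :=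
  List.rec (motive := fun _ => List (List ℕ) → Bool) (fun _ => true)
    (fun r _ ih W => List.rec (motive := fun _ => Bool) false (fun w t _ => band (eqL (subst D r) w) (ih t)) W) R W

theorem ext_rels {Γ : Type*} [Monoid Γ] {y : ℕ → Γ} {D : List (List ℕ)} :
    ∀ {R W : List (List ℕ)}, substChk D R W = true → (∀ w ∈ W, ev y w = 1) → ∀ r ∈ R, ev (ext y D) r = 1
  | [], _, _, _ => by simp
  | _ :: _, [], h, _ => by cases h
  | r :: R, w :: W, H, hW => by
    have e : substChk D (r :: R) (w :: W) = band (eqL (subst D r) w) (substChk D R W) := rfl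
    rw [e, band_eq, eqL_iff] at H
    intro r' hr'
    rcases List.mem_cons.1 hr' with rfl | hr'
    · rw [← ev_subst, H.1]; exact hW w (by simp)
    · exact ext_rels H.2 (fun v hv => hW v (by simp [hv])) r' hr'

theorem cl_ext {Γ : Type*} [Group Γ] (y : ℕ → Γ) {D : List (List ℕ)} {S : List ℕ}
    (h : allL (fun a => eqL (nth D [] a) [a]) S = true) : cl (ext y D) S = cl y S := by
  unfold cl; congr 1
  exact Set.image_congr fun a ha => by
    rw [ext, (eqL_iff _ _).1 ((allL_iff _ _).1 h a ha), ev_singleton]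

/-- A bound obtained with auxiliary letters. -/
theorem bounds_of_subst {R0 R W D : List (List ℕ)} {S : List ℕ} {N : ℕ} (hb : Bounds R S N) (hW : Imp R0 W)
    (h1 : substChk D R W = true) (h2 : allL (fun a => eqL (nth D [] a) [a]) S = true) : Bounds R0 S N := by
  intro Γ _ y hR
  rw [← cl_ext y h2]
  exact hb Γ _ (ext_rels h1 (hW Γ y hR))

/-! ### Small normal subgroups -/

/-- Conjugation twice by the same element fixes a normal subgroup with at most three elements. -/
theorem conj_sq_of_card_le_three {H : Type*} [Group H] {K : Subgroup H} [hK : K.Normal] [Finite K]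
    (h3 : Nat.card K ≤ 3) (g : H) {k : H} (hk : k ∈ K) : g * g * k = k * (g * g) := by
  classical
  have h1 := hK.conj_mem k hk g
  have h2 := hK.conj_mem _ h1 g
  by_contra hne
  have n1 : k ≠ 1 := by rintro rfl; simp at hne
  have n2 : g * k * g⁻¹ ≠ k := by
    intro e
    apply hne
    have e' : g * k = k * g := by rw [← mul_inv_eq_iff_eq_mul]; exact e
    rw [mul_assoc, e', ← mul_assoc, e', mul_assoc]
  have n3 : g * (g * k * g⁻¹) * g⁻¹ ≠ k := by
    intro e; apply hne
    calc g * g * k = g * (g * k * g⁻¹) * g⁻¹ * (g * g) := by group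
      _ = _ := by rw [e]
  have n4 : g * (g * k * g⁻¹) * g⁻¹ ≠ g * k * g⁻¹ := fun e => n2 (by simpa using e)
  have n5 : g * k * g⁻¹ ≠ 1 := fun e => n1 (by simpa using e)
  have n6 : g * (g * k * g⁻¹) * g⁻¹ ≠ 1 := fun e => n5 (by simpa using e)
  have := Fintype.ofFinite K
  have h4 := Finset.card_le_univ ({1, ⟨k, hk⟩, ⟨_, h1⟩, ⟨_, h2⟩} : Finset K)
  rw [← Nat.card_eq_fintype_card, Finset.card_insert_of_notMem, Finset.card_insert_of_notMem,
    Finset.card_pair] at h4
  · omega
  · exact fun e => n4 (congrArg Subtype.val e).symm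
  · simp only [Finset.mem_insert, Finset.mem_singleton, Subtype.ext_iff]
    rintro (e | e)
    · exact n2 e.symm
    · exact n3 e.symm
  · simp only [Finset.mem_insert, Finset.mem_singleton, Subtype.ext_iff]
    rintro (e | e | e)
    · exact n1 e.symm
    · exact n5 e.symm
    · exact n6 e.symm

/-- A homomorphism is injective on a finite subgroup that is not larger than its image. -/
theorem eq_one_of_card_le {H P : Type*} [Group H] [Group P] (f : H →* P) {L : Subgroup H} [Finite L]
    (h : Nat.card L ≤ Nat.card (L.map f)) {d : H} (hd : d ∈ L) (h1 : f d = 1) : d = 1 := by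
  have hb := (f.subgroupMap_surjective L).bijective_of_nat_card_le h
  have : f.subgroupMap L ⟨d, hd⟩ = f.subgroupMap L 1 := Subtype.ext (by simpa using h1)
  exact congrArg Subtype.val (hb.1 this)

end Cfsg.Agent.TCX
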