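import Cfsg.Agent.Lib.TCX.Level
import Cfsg.Prelude.Def_SporCoxeter

/-! Certificates from coset enumerations with coincidences, and presented groups. -/

set_option autoImplicit false

namespace Cfsg.Agent.TCX

open Cfsg.Agent.CG

/-- All leaves satisfy `p`. -/
noncomputable def Bt.all {α : Type} (p : α → Bool) (t : Bt α) : Bool :=
  Bt.rec (motive := fun _ => Bool) (fun a => p a) (fun _ _ ihl ihr => band ihl ihr) t

theorem Bt.all_get {α : Type} {p : α → Bool} {t : Bt α} (h : t.all p = true) (i : ℕ) : p (t.get i) = true := by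
  induction t generalizing i with
  | leaf a => exact h
  | node l r ihl ihr =>
    have e : (Bt.node l r).all p = band (l.all p) (r.all p) := rfl
    rw [e, band_eq] at h
    have e2 : (Bt.node l r).get i = Nat.rec (motive := fun _ => α) (l.get (Nat.shiftRight i 1))
      (fun _ _ => r.get (Nat.shiftRight i 1)) (Nat.land i 1) := rfl
    rw [e2]
    cases Nat.land i 1
    · exact ihl h.1 _
    · exact ihr h.2 _

/-- The check of a rule of the letter `a`. -/
noncomputable def ruChk (R : List (List ℕ)) (ne a : ℕ) (ρ : Ru) : Bool :=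
  band (allL (fun b => blt b ne) ρ.v)
    (eqL (Bool.rec (motive := fun _ => List ℕ) (a :: ρ.v) ρ.v (Nat.beq a ne))
      (app2 (dropL ρ.p (nth R [] ρ.ri)) (takeL ρ.p (nth R [] ρ.ri))))

/-- The check of all rules. -/
noncomputable def rusChk (R : List (List ℕ)) (ne : ℕ) (RT : List (Bt Ru)) (a : ℕ) : Bool :=
  (nthL RT (.leaf ⟨[], nat_lit 0, nat_lit 0⟩) a).all (ruChk R ne a)

/-- The letters with the coincidence letter `ne` sent to the identity. -/
def upd {Γ : Type*} [Group Γ] (y : ℕ → Γ) (ne a : ℕ) : Γ := if a = ne then 1 else y a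

theorem ev_upd {Γ : Type*} [Group Γ] (y : ℕ → Γ) {ne : ℕ} {v : List ℕ} (h : ∀ b ∈ v, b < ne) :
    ev (upd y ne) v = ev y v := ev_congr _ fun a ha => if_neg (h a ha).ne

theorem ev_nth {Γ : Type*} [Group Γ] {y : ℕ → Γ} {R : List (List ℕ)} (hR : ∀ r ∈ R, ev y r = 1) (i : ℕ) :
    ev y (nth R [] i) = 1 := by
  rw [nth_eq]
  by_cases h : i < R.length
  · rw [List.getD_eq_getElem _ _ h]; exact hR _ (List.getElem_mem _)
  · rw [List.getD_eq_default _ _ (by omega)]; rfl

theorem rus_sound {Γ : Type*} [Group Γ] {y : ℕ → Γ} {R : List (List ℕ)} (hR : ∀ r ∈ R, ev y r = 1) {ne : ℕ}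
    {RT : List (Bt Ru)} (h : allLt (rusChk R ne RT) (ne + 1) = true) (a : ℕ) (ha : a ≤ ne) (r : ℕ) :
    (∀ b ∈ rT RT a r, b ≤ ne) ∧ upd y ne a * ev (upd y ne) (rT RT a r) = 1 := by
  have h1 := Bt.all_get ((allLt_iff _ _).1 h a (by omega)) r
  unfold rT
  generalize (nthL RT (.leaf ⟨[], nat_lit 0, nat_lit 0⟩) a).get r = ρ at h1
  unfold ruChk at h1
  rw [band_eq, allL_iff, eqL_iff, app2_eq] at h1
  have h2 : ∀ b ∈ ρ.v, b < ne := fun b hb => (blt_iff _ _).1 (h1.1 b hb)
  refine ⟨fun b hb => (h2 b hb).le, ?_⟩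
  have h4 := ev_nth hR ρ.ri
  rw [← takeL_append_dropL ρ.p (nth R [] ρ.ri), ev_append, mul_eq_one_comm, ← ev_append, ← h1.2] at h4
  rw [ev_upd y h2]
  unfold upd
  split_ifs with e
  · rw [(beq_iff _ _).2 e] at h4; rw [one_mul]; exact h4
  · rw [(beq_false_iff _ _).2 e] at h4; exact h4

theorem nfOf_mem {S : List ℕ} {Nf a : ℕ} (h : a ∈ S) : nfOf S Nf a = Nf := by
  induction S with
  | nil => cases h
  | cons b S ih =>
    have e : nfOf (b :: S) Nf a = Bool.rec (motive := fun _ => ℕ) (nfOf S Nf a) Nf (Nat.beq a b) := rfl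
    rw [e]
    cases hb : Nat.beq a b
    · rcases List.mem_cons.1 h with h | h
      · exact absurd h ((beq_false_iff _ _).1 hb)
      · exact ih h
    · rfl

/-- In every group in which the words `R` vanish, the letters `S'` generate a subgroup with at most `N` cosets
meeting the subgroup generated by `S`. -/
def Idx (R : List (List ℕ)) (S S' : List ℕ) (N : ℕ) : Prop :=
  ∀ (Γ : Type) [Group Γ] (y : ℕ → Γ), (∀ r ∈ R, ev y r = 1) → Finite (cl y S') →
    Finite (cl y S) ∧ Nat.card (cl y S) ≤ N * Nat.card (cl y S')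

/-- In every group in which the words `R` vanish, the words `W` lie in the subgroup generated by `S'`. -/
def Mem (R : List (List ℕ)) (S' : List ℕ) (W : List (List ℕ)) : Prop :=
  ∀ (Γ : Type) [Group Γ] (y : ℕ → Γ), (∀ r ∈ R, ev y r = 1) → ∀ w ∈ W, ev y w ∈ cl y S'

/-- The cheap part of the check of a table. -/
noncomputable def hdChk (G : ℕ → ℕ → ℕ) (k Mc Mo ne s1 m' : ℕ) (S' : List ℕ) : Bool :=
  band (Nat.beq m' (maskOf S')) (Nat.beq (Nat.shiftRight (tb G Mc Mo (Nat.succ ne) (Nat.shiftLeft 1 k)) s1) 0)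

/-- The cheap part of the check of a complete table. -/
noncomputable def hdChk2 (k M1 ne lM Nf cm : ℕ) (S : List ℕ) : Bool :=
  band (allL (fun b => blt b ne) S) (band (blt 0 Nf) (band (blt lM (2 ^ k + 64 * (Nf + cm)))
    (Nat.ble (2 ^ k + 64 * Nf) (M1 + 64))))

theorem allz_zero (f : ℕ → ℕ) : ∀ a, a < 0 → f a = 0 := fun _ h => by omega

theorem allz_snoc {f : ℕ → ℕ} {n : ℕ} (h1 : ∀ a, a < n → f a = 0) (h2 : f n = 0) : ∀ a, a < n + 1 → f a = 0 :=
  fun a ha => if e : a = n then e ▸ h2 else h1 a (by omega)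

theorem allz_of_orR {f : ℕ → ℕ} {n : ℕ} (h : orR f 0 n = 0) : ∀ a, a < n → f a = 0 :=
  fun a ha => (orR_iff _ _ _).1 h a (Nat.zero_le _) (by omega)

theorem allLt_nil (p : ℕ → Bool) : allLt p 0 = true := rfl

theorem allLt_snoc {p : ℕ → Bool} {n : ℕ} (h1 : allLt p n = true) (h2 : p n = true) : allLt p (n + 1) = true := by
  have : allLt p (n + 1) = band (p n) (allLt p n) := rfl
  rw [this, band_eq]; exact ⟨h2, h1⟩

/-- Checks over ranges that can be glued. -/
def Glue (f : ℕ → ℕ → ℕ) : Prop := ∀ lo c c', f lo c = 0 → f (lo + c) c' = 0 → f lo (c + c') = 0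

theorem Glue.app {f : ℕ → ℕ → ℕ} (hf : Glue f) {lo c m c' n : ℕ} (h1 : f lo c = 0) (h2 : f m c' = 0)
    (e1 : lo + c = m) (e2 : c + c' = n) : f lo n = 0 := e2 ▸ hf lo c c' h1 (e1 ▸ h2)

section
variable {G : ℕ → ℕ → ℕ} {q d k M1 Mc Mo ne s1 s2 FL Mj R0 R1 m' lM full : ℕ} {RT : List (Bt Ru)}
  {R : List (List ℕ)} {S S' : List ℕ}

theorem good_of_chk (L : Lay q d k M1 Mc Mo ne s1 s2 FL) (hfull : full = 2 ^ d - 1) {nf : ℕ → ℕ}
    (h : ∀ a, a < ne + 1 → chk G (rT RT) k M1 Mc Mo ne s1 Mj FL R0 R1 m' lM a (nf a) 0 full = 0)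
    (h1 : allLt (rusChk R ne RT) (ne + 1) = true) (h2 : hdChk G k Mc Mo ne s1 m' S' = true)
    {Γ : Type} [Group Γ] {y : ℕ → Γ} (hR : ∀ r ∈ R, ev y r = 1) :
    tb G Mc Mo (ne + 1) (2 ^ k) >>> s1 = 0 ∧
    (∀ lim, 0x8000000000000000 < lim →
      Good (upd y ne) (cs (upd y ne) (cl y S') G M1 Mc Mo ne s1) G Mc Mo ne lim) ∧
    ∀ a, a ≤ ne → ∀ x, tb G Mc Mo a x ≠ 0 → upd y ne a • cs (upd y ne) (cl y S') G M1 Mc Mo ne s1 x =
      cs (upd y ne) (cl y S') G M1 Mc Mo ne s1 (tb G Mc Mo a x) := by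
  unfold hdChk at h2
  rw [band_eq, beq_iff, beq_iff] at h2
  have h0 : tb G Mc Mo (ne + 1) (2 ^ k) >>> s1 = 0 := by rw [← Nat.one_shiftLeft]; exact h2.2
  refine ⟨h0, good_all L (fun a ha => hfull ▸ h a (by omega)) (if_pos rfl) (rus_sound hR h1) (fun b hb => ?_) h0⟩
  rw [h2.1, bit_maskOf] at hb
  unfold upd
  split_ifs
  · exact one_mem _
  · exact gen_mem_cl y hb

theorem idx_of_chk (L : Lay q d k M1 Mc Mo ne s1 s2 FL) (hfull : full = 2 ^ d - 1) {Nf cm : ℕ} {f : ℕ → ℕ}
    (hf : ∀ a, f a = chk G (rT RT) k M1 Mc Mo ne s1 Mj FL R0 R1 m' lM a (nfOf S Nf a) 0 full)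
    (h : ∀ a, a < ne + 1 → f a = 0)
    (h1 : allLt (rusChk R ne RT) (ne + 1) = true) (h2 : hdChk G k Mc Mo ne s1 m' S' = true)
    (h3 : hdChk2 k M1 ne lM Nf cm S = true) (hM : chkM G k M1 Mc Mo ne Nf cm = 0) : Idx R S S' Nf := by
  intro Γ _ y hR hfin
  obtain ⟨g1, -, g3⟩ := good_of_chk L hfull (fun a ha => hf a ▸ h a ha) h1 h2 hR
  unfold hdChk2 at h3
  rw [band_eq, band_eq, band_eq, allL_iff, blt_iff, blt_iff, ble_iff] at h3
  obtain ⟨t1, t2, t3, t4⟩ := h3
  have t1 : ∀ a ∈ S, a < ne := fun a ha => (blt_iff _ _).1 (t1 a ha)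
  have key := cosets_of_good (y := upd y ne) (S := S) (Nm := Nf + cm) L (fun a ha => ⟨(t1 a ha).le, by
    have := h a (by have := t1 a ha; omega)
    rw [hf, nfOf_mem ha, hfull] at this
    exact this⟩) (if_pos rfl) g1 g3 (by rwa [Nat.add_sub_cancel_left]) t2 t3 t4
  have e : cl (upd y ne) S = cl y S := by
    unfold cl; congr 1
    exact Set.image_congr fun a ha => if_neg (t1 a ha).ne
  rw [e] at key
  choose! ff hf1 hf2 using key
  let c := fun i => cs (upd y ne) (cl y S') G M1 Mc Mo ne s1 (2 ^ k + 64 * i)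
  let F : cl y S → Fin Nf × cl y S' := fun g => (⟨ff g, hf1 g g.2⟩, ⟨(c (ff g)).out⁻¹ * g, by
    rw [← QuotientGroup.eq, QuotientGroup.out_eq', hf2 g g.2]⟩)
  have hF : Function.Injective F := by
    intro g g' e
    have e1 : ff g = ff g' := congrArg (fun z => (z.1 : ℕ)) e
    have e2 : (c (ff g)).out⁻¹ * g = (c (ff g')).out⁻¹ * g' := congrArg (fun z => (z.2 : Γ)) e
    rw [e1] at e2
    exact Subtype.ext (mul_left_cancel e2)
  exact ⟨Finite.of_injective F hF, by simpa using Nat.card_le_card_of_injective F hF⟩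

theorem mem_of_chk (L : Lay q d k M1 Mc Mo ne s1 s2 FL) (hfull : full = 2 ^ d - 1) {f : ℕ → ℕ}
    (hf : ∀ a, f a = chk G (rT RT) k M1 Mc Mo ne s1 Mj FL R0 R1 m' lM a (nfOf [] 0 a) 0 full)
    (h : ∀ a, a < ne + 1 → f a = 0)
    (h1 : allLt (rusChk R ne RT) (ne + 1) = true) (h2 : hdChk G k Mc Mo ne s1 m' S' = true) {W : List (List ℕ)}
    (h3 : allL (fun w => band (allL (fun b => blt b ne) w)
      (Nat.beq (trc G M1 Mc Mo ne w (2 ^ k) (2 ^ k)) 0)) W = true) : Mem R S' W := by
  intro Γ _ y hR w hw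
  obtain ⟨g1, g2, -⟩ := good_of_chk L hfull (fun a ha => hf a ▸ h a ha) h1 h2 hR
  have h4 := (allL_iff _ _).1 h3 w hw
  rw [band_eq, allL_iff, beq_iff] at h4
  have t1 : ∀ a ∈ w, a < ne := fun a ha => (blt_iff _ _).1 (h4.1 a ha)
  have h5 := runS_sound (g2 0x8000000000000001 (by norm_num)) (if_pos rfl) (cs_land L) (fun b hb => (t1 b hb).le) h4.2
  rw [ev_upd y t1, cs, cos_base g1] at h5
  have : ev y w • ((1 : Γ) : Γ ⧸ cl y S') = ((ev y w * 1 : Γ) : Γ ⧸ cl y S') := rfl
  rw [this, QuotientGroup.eq] at h5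
  simpa using h5

end

theorem Idx.bound {R : List (List ℕ)} {S S' : List ℕ} {N M : ℕ} (h : Idx R S S' N) {Γ : Type} [Group Γ] {y : ℕ → Γ}
    (hR : ∀ r ∈ R, ev y r = 1) (h' : Finite (cl y S') ∧ Nat.card (cl y S') ≤ M) :
    Finite (cl y S) ∧ Nat.card (cl y S) ≤ N * M :=
  ⟨(h Γ y hR h'.1).1, (h Γ y hR h'.1).2.trans (Nat.mul_le_mul_left _ h'.2)⟩

theorem bound_nil {Γ : Type} [Group Γ] (y : ℕ → Γ) : Finite (cl y []) ∧ Nat.card (cl y []) ≤ 1 := by
  rw [cl_nil]; exact ⟨inferInstance, by simp⟩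

/-! ### Consequences of relators by free reduction -/

/-- Free reduction. -/
noncomputable def red (inv : ℕ → ℕ) (w : List ℕ) : List ℕ :=
  List.rec (motive := fun _ => List ℕ) [] (fun a _ ih => List.rec (motive := fun _ => List ℕ) [a]
    (fun b t _ => Bool.rec (motive := fun _ => List ℕ) (a :: b :: t) t (Nat.beq b (inv a))) ih) w

/-- The inverse word, followed by `acc`. -/
noncomputable def winv (inv : ℕ → ℕ) (w acc : List ℕ) : List ℕ :=
  List.rec (motive := fun _ => List ℕ → List ℕ) (fun acc => acc) (fun a _ ih acc => ih (inv a :: acc)) w acc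

section
variable {Γ : Type*} [Group Γ] {y : ℕ → Γ} {inv : ℕ → ℕ}

theorem ev_red (hinv : ∀ a, y (inv a) = (y a)⁻¹) (w : List ℕ) : ev y (red inv w) = ev y w := by
  induction w with
  | nil => rfl
  | cons a w ih =>
    have e : red inv (a :: w) = List.rec (motive := fun _ => List ℕ) [a]
      (fun b t _ => Bool.rec (motive := fun _ => List ℕ) (a :: b :: t) t (Nat.beq b (inv a))) (red inv w) := rfl
    rw [e, ev_cons, ← ih]
    cases red inv w with
    | nil => simp
    | cons b t =>
      dsimp only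
      cases hb : Nat.beq b (inv a)
      · rfl
      · rw [(beq_iff _ _).1 hb, ev_cons, hinv]; simp

theorem ev_winv (hinv : ∀ a, y (inv a) = (y a)⁻¹) (w acc : List ℕ) :
    ev y (winv inv w acc) = (ev y w)⁻¹ * ev y acc := by
  induction w generalizing acc with
  | nil => simp [winv]
  | cons a w ih =>
    have e : winv inv (a :: w) acc = winv inv w (inv a :: acc) := rfl
    rw [e, ih, ev_cons, ev_cons, hinv, mul_inv_rev, mul_assoc]

/-- The word `r` is freely equal to a conjugate of a word of `R0` (or of the empty word) or of its inverse: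
the hint gives the number, the sign and the conjugating word. -/
noncomputable def derChk (inv : ℕ → ℕ) (R0 : List (List ℕ)) (r : List ℕ) (h : ℕ × Bool × List ℕ) : Bool :=
  eqL (red inv (winv inv r (winv inv h.2.2 (app2
    (Bool.rec (motive := fun _ => List ℕ) (nth R0 [] h.1) (winv inv (nth R0 [] h.1) []) h.2.1) h.2.2)))) []

/-- `derChk` along two lists. -/
noncomputable def dersChk (inv : ℕ → ℕ) (R0 R : List (List ℕ)) (hs : List (ℕ × Bool × List ℕ)) : Bool :=
  List.rec (motive := fun _ => List (ℕ × Bool × List ℕ) → Bool) (fun _ => true)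
    (fun r _ ih hs => List.rec (motive := fun _ => Bool) false (fun h t _ => band (derChk inv R0 r h) (ih t)) hs) R hs

theorem ders_sound (hinv : ∀ a, y (inv a) = (y a)⁻¹) {R0 : List (List ℕ)} (h0 : ∀ r ∈ R0, ev y r = 1) :
    ∀ {R : List (List ℕ)} {hs : List (ℕ × Bool × List ℕ)}, dersChk inv R0 R hs = true → ∀ r ∈ R, ev y r = 1
  | [], _, _ => by simp
  | _ :: _, [], h => by cases h
  | r :: R, h :: hs, H => by
    have e : dersChk inv R0 (r :: R) (h :: hs) = band (derChk inv R0 r h) (dersChk inv R0 R hs) := rfl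
    rw [e, band_eq] at H
    intro r' hr'
    rcases List.mem_cons.1 hr' with rfl | hr'
    · have h1 := H.1
      unfold derChk at h1
      rw [eqL_iff] at h1
      have h2 := congrArg (ev y) h1
      rw [ev_red hinv, ev_winv hinv, ev_winv hinv, app2_eq, ev_append] at h2
      have h3 : ev y (Bool.rec (motive := fun _ => List ℕ) (nth R0 [] h.1) (winv inv (nth R0 [] h.1) []) h.2.1) = 1 := by
        cases h.2.1
        · exact ev_nth h0 _
        · dsimp only; rw [ev_winv hinv, ev_nth h0]; simp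
      rw [h3] at h2
      simpa using h2
    · exact ders_sound hinv h0 H.2 r' hr'

end

/-- A bound for one list of relators gives a bound for another list that implies the first by free reduction. -/
theorem bounds_of_ders {R R0 : List (List ℕ)} {S : List ℕ} {N n : ℕ} {inv : ℕ → ℕ} {hs : List (ℕ × Bool × List ℕ)}
    (h : Bounds R S N) (h1 : dersChk inv R0 R hs = true) (h2 : ∀ a, n ≤ a → n ≤ inv a)
    (h3 : allLt (fun a => band (blt (inv a) n) (bor (anyL (eqL [a, inv a]) R0) (anyL (eqL [inv a, a]) R0))) n = true)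
    (h4 : allL (allL fun a => blt a n) R0 = true) (h5 : allL (fun a => blt a n) S = true) : Bounds R0 S N := by
  intro Γ _ y hR
  let y' : ℕ → Γ := fun a => if a < n then y a else 1
  have hinv : ∀ a, y' (inv a) = (y' a)⁻¹ := by
    intro a
    by_cases ha : a < n
    · have := (allLt_iff _ _).1 h3 a ha
      rw [band_eq, blt_iff, bor_eq, anyL_iff, anyL_iff] at this
      simp only [y', if_pos ha, if_pos this.1]
      rcases this.2 with ⟨r, hr, e⟩ | ⟨r, hr, e⟩
      · have h6 := hR r hr
        rw [← (eqL_iff _ _).1 e] at h6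
        exact eq_inv_of_mul_eq_one_right (by simpa using h6)
      · have h6 := hR r hr
        rw [← (eqL_iff _ _).1 e] at h6
        exact eq_inv_of_mul_eq_one_left (by simpa using h6)
    · simp only [y', if_neg ha, if_neg (not_lt.2 (h2 a (not_lt.1 ha))), inv_one]
  have h0 : ∀ r ∈ R0, ev y' r = 1 := fun r hr => by
    rw [← hR r hr]
    exact ev_congr _ fun a ha => if_pos ((blt_iff _ _).1 ((allL_iff _ _).1 ((allL_iff _ _).1 h4 r hr) a ha))
  have e : cl y' S = cl y S := by
    unfold cl; congr 1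
    exact Set.image_congr fun a ha => if_pos ((blt_iff _ _).1 ((allL_iff _ _).1 h5 a ha))
  rw [← e]
  exact h Γ y' (ders_sound hinv h0 h1)

/-! ### Groups presented by a Coxeter graph and further relators -/

section
open Cfsg.Spor
variable {α : Type} [DecidableEq α] (code : α → ℕ) (inv : ℕ → ℕ)

/-- The word of letters of an element of a free group. -/
def wordOf (w : FreeGroup α) : List ℕ := w.toWord.map fun p => if p.2 then code p.1 else inv (code p.1)

/-- The relators as words of letters. -/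
def relWords (edges : List (α × ℕ × α)) (extra : List (FreeGroup α)) : List (List ℕ) :=
  extra.map (wordOf code inv) ++ (coxNodes edges).dedup.flatMap fun x => (coxNodes edges).dedup.map fun z =>
    (List.replicate (coxLabel edges x z) [code x, code z]).flatten

variable {code inv}

theorem ev_wordOf {Γ : Type*} [Group Γ] {y : ℕ → Γ} (hinv : ∀ a, y (inv a) = (y a)⁻¹) (w : FreeGroup α) :
    ev y (wordOf code inv w) = FreeGroup.lift (fun g => y (code g)) w := by
  conv_rhs => rw [← FreeGroup.mk_toWord (x := w), FreeGroup.lift_mk]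
  unfold wordOf ev
  rw [List.map_map]
  congr 1
  apply List.map_congr_left
  rintro ⟨g, s⟩ -
  cases s <;> simp [hinv]

omit [DecidableEq α] in
theorem ev_replicate {Γ : Type*} [Group Γ] (y : ℕ → Γ) (n : ℕ) (v : List ℕ) :
    ev y (List.replicate n v).flatten = ev y v ^ n := by
  induction n with
  | zero => simp
  | succ n ih => rw [List.replicate_succ, List.flatten_cons, ev_append, ih, pow_succ']

theorem relWords_iff {Γ : Type*} [Group Γ] {y : ℕ → Γ} (hinv : ∀ a, y (inv a) = (y a)⁻¹)
    (edges : List (α × ℕ × α)) (extra : List (FreeGroup α)) :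
    (∀ r ∈ relWords code inv edges extra, ev y r = 1) ↔
      ∀ r ∈ coxRelators edges ∪ {r | r ∈ extra}, FreeGroup.lift (fun g => y (code g)) r = 1 := by
  unfold relWords
  simp only [List.mem_append, List.mem_map, List.mem_flatMap, List.mem_dedup]
  constructor
  · rintro h r (⟨x, hx, z, hz, rfl⟩ | hr)
    · have := h _ (Or.inr ⟨x, hx, z, hz, rfl⟩)
      rw [ev_replicate] at this
      simpa using this
    · rw [← ev_wordOf hinv]; exact h _ (Or.inl ⟨r, hr, rfl⟩)
  · rintro h r (⟨w, hw, rfl⟩ | ⟨x, hx, z, hz, rfl⟩)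
    · rw [ev_wordOf hinv]; exact h w (Or.inr hw)
    · have := h _ (Or.inl ⟨x, hx, z, hz, rfl⟩)
      rw [ev_replicate]
      simpa using this

/-- The value of a letter in the presented group, from a table of letters. -/
def letter (edges : List (α × ℕ × α)) (extra : List (FreeGroup α)) (T : List (α × Bool)) (a : ℕ) :
    CoxPresented α edges extra :=
  match T[a]? with
  | some (g, true) => PresentedGroup.of g
  | some (g, false) => (PresentedGroup.of g)⁻¹
  | none => 1

/-- The table of letters fits the inversion of letters; generators in `I` are their own inverses. -/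
def tabFits (T : List (α × Bool)) (inv : ℕ → ℕ) (I : List α) : Prop :=
  ∀ a, a < T.length → ∃ p ∈ T[a]?, T[inv a]? = some (p.1, !p.2) ∨ (inv a = a ∧ p.1 ∈ I)

instance instDecidableTabFits (T : List (α × Bool)) (inv : ℕ → ℕ) (I : List α) : Decidable (tabFits T inv I) := by
  unfold tabFits; infer_instance

theorem node_sq (edges : List (α × ℕ × α)) (extra : List (FreeGroup α)) {g : α} (h : g ∈ coxNodes edges) :
    (PresentedGroup.of g : CoxPresented α edges extra) * PresentedGroup.of g = 1 := by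
  have : (FreeGroup.of g * FreeGroup.of g) ^ coxLabel edges g g ∈ coxRelators edges ∪ {r | r ∈ extra} :=
    Or.inl ⟨g, h, g, h, rfl⟩
  have h2 := PresentedGroup.one_of_mem this
  have e : coxLabel edges g g = 1 := if_pos rfl
  rw [e, pow_one, map_mul] at h2
  exact h2

theorem letter_inv {edges : List (α × ℕ × α)} {extra : List (FreeGroup α)} {T : List (α × Bool)} {I : List α}
    (h : tabFits T inv I) (hI : ∀ g ∈ I, (PresentedGroup.of g : CoxPresented α edges extra) * PresentedGroup.of g = 1)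
    (h2 : ∀ a, T.length ≤ a → T.length ≤ inv a) (a : ℕ) :
    letter edges extra T (inv a) = (letter edges extra T a)⁻¹ := by
  by_cases ha : a < T.length
  · obtain ⟨⟨g, s⟩, h1, h3 | ⟨h3, h4⟩⟩ := h a ha
    · have h1 : T[a]? = some (g, s) := h1
      unfold letter; rw [h1, h3]; cases s <;> simp
    · have h1 : T[a]? = some (g, s) := h1
      have := eq_inv_of_mul_eq_one_left (hI g h4)
      rw [h3]; unfold letter; rw [h1]
      cases s
      · simp [← this]
      · simpa using this
  · unfold letter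
    rw [List.getElem?_eq_none (i := a) (by omega), List.getElem?_eq_none (h2 a (by omega))]
    simp

/-- Inversion of letters from a list. -/
noncomputable def invOf (l : List ℕ) (a : ℕ) : ℕ := nth l a a

theorem invOf_ge' {l : List ℕ} {n : ℕ} (h : l.length = n) (a : ℕ) (ha : n ≤ a) : n ≤ invOf l a := by
  unfold invOf; rw [nth_triv l a (by omega)]; exact ha

omit [DecidableEq α] in
theorem invOf_ge {T : List (α × Bool)} {l : List ℕ} (h : l.length = T.length) (a : ℕ) (ha : T.length ≤ a) :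
    T.length ≤ invOf l a := by
  unfold invOf; rw [nth_triv l a (by omega)]; exact ha

theorem letter_rels {edges : List (α × ℕ × α)} {extra : List (FreeGroup α)} {y : ℕ → CoxPresented α edges extra}
    (hinv : ∀ a, y (inv a) = (y a)⁻¹) (hc : ∀ g, y (code g) = PresentedGroup.of g) :
    ∀ r ∈ relWords code inv edges extra, ev y r = 1 := by
  rw [relWords_iff hinv]
  intro r hr
  have : FreeGroup.lift (fun g => y (code g)) = PresentedGroup.mk (coxRelators edges ∪ {r | r ∈ extra}) := by
    ext g; simp [hc]; rfl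
  rw [this]
  exact PresentedGroup.one_of_mem hr

/-- The presented group is isomorphic to a finite group with generators satisfying the relators, if it is not
larger. -/
theorem iso_of_bound {edges : List (α × ℕ × α)} {extra : List (FreeGroup α)} {y : ℕ → CoxPresented α edges extra}
    (hc : ∀ g, y (code g) = PresentedGroup.of g) {S : List ℕ} (hS : ∀ g, code g ∈ S) {N : ℕ}
    (hN : Finite (cl y S) ∧ Nat.card (cl y S) ≤ N) {P : Type*} [Group P] {z : ℕ → P}
    (hinv : ∀ a, z (inv a) = (z a)⁻¹) (hz : ∀ r ∈ relWords code inv edges extra, ev z r = 1) {S2 : List ℕ}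
    (h2 : cl z S2 = ⊤) (h3 : ∀ a ∈ S2, ∃ g, a = code g ∨ a = inv (code g)) (hP : N ≤ Nat.card P) :
    ∃ e : CoxPresented α edges extra ≃* P, ∀ g, e (PresentedGroup.of g) = z (code g) := by
  let f : CoxPresented α edges extra →* P := PresentedGroup.toGroup ((relWords_iff hinv edges extra).1 hz)
  have hf : ∀ g, f (PresentedGroup.of g) = z (code g) := fun g => PresentedGroup.toGroup.of _
  have hs : Function.Surjective f := by
    rw [← MonoidHom.range_eq_top, eq_top_iff, ← h2]
    apply cl_le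
    intro a ha
    obtain ⟨g, rfl | rfl⟩ := h3 a ha
    · exact ⟨_, hf g⟩
    · rw [hinv]; exact inv_mem ⟨_, hf g⟩
  have ht : cl y S = ⊤ := by
    rw [eq_top_iff, ← PresentedGroup.closure_range_of, Subgroup.closure_le]
    rintro _ ⟨g, rfl⟩
    rw [← hc]; exact gen_mem_cl y (hS g)
  rw [ht] at hN
  have : Finite (CoxPresented α edges extra) := @Finite.of_equiv _ _ hN.1 Subgroup.topEquiv.toEquiv
  have h4 : Nat.card (CoxPresented α edges extra) ≤ Nat.card P := by
    have := hN.2; rw [Subgroup.card_top] at this; exact this.trans hP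
  exact ⟨MulEquiv.ofBijective f (hs.bijective_of_nat_card_le h4), hf⟩

end

end Cfsg.Agent.TCX
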