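import Cfsg.Agent.Lib.TCX.M24pA.Main
import Cfsg.Agent.Lib.TCX.M24pB.Main
import Cfsg.Agent.Lib.TCX.Ext
import Cfsg.Agent.Lib.Grp.M24p.Main

/-! The order of the two-generator presentation of M24, through Schreier generators of a point stabiliser. -/

set_option autoImplicit false
set_option maxRecDepth 100000

namespace Cfsg.Agent.TCX.M24p

open Cfsg.Agent.CG

/-- The Schreier generators. -/
noncomputable def D : List (List ℕ) := [[0],[1],[2],[1,0],[0,2],[2,0,2,0,1,0,1,0,1,0,2,0,2,0,1,0,1],[2,0,2,0,1,0,1,0,2,0,2,0,2,0,1,0,1],[2,0,1,0,1,0,2,0,1],[2,0,1,0,2,0,2,0,1],[2,0,2,0,2,0,1,0,1,0,2,0,1,0,1,0,1],[2,0,2,0,2,0,1,0,2,0,2,0,1,0,1,0,1],[2,0,2,0,1,0,2,0,1,0,1,0,2,0,1,0,1],[2,0,2,0,1,0,2,0,2,0,1,0,2,0,1,0,1],[2,0,2,0,2,0,2,0,1,0,1,0,2,0,1,0,1,0,1,0,1],[2,0,2,0,2,0,2,0,1,0,2,0,2,0,1,0,1,0,1,0,1],[2,0,2,0,2,0,2,0,2,0,1,0,1,0,1,0,1,0,1,0,1],[2,0,2,0,2,0,2,0,2,0,2,0,1,0,1,0,1,0,1,0,1]]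

theorem bounds : Bounds CG.M24p.tcR CG.M24p.tcS 244823040 :=
  bounds_of_subst (D := D) M24pB.bounds
    ((imp_of_ders (n := 3) (inv := invOf M24pA.invL) (hs := M24pA.hints) (by decide +kernel) (invOf_ge' rfl)
      (by decide +kernel) (by decide +kernel) (by decide +kernel)).trans M24pA.l0_ok.imp)
    (by decide +kernel) (by decide +kernel)

instance factBounds : Fact (Bounds CG.M24p.tcR CG.M24p.tcS 244823040) := ⟨bounds⟩

end Cfsg.Agent.TCX.M24p
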