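import Cfsg.Agent.Lib.TCX.HSxA.Main
import Cfsg.Agent.Lib.TCX.HSxB.Main
import Cfsg.Agent.Lib.TCX.Ext
import Cfsg.Agent.Lib.Grp.HSx.Main

/-! The order of the three-generator presentation of 2.HS.2.  The enumeration gives three times the order; the
kernel onto the permutation model is centralised by `x`, which inverts its generator `c` inside `⟨x, y⟩`. -/

set_option autoImplicit false
set_option maxRecDepth 100000

namespace Cfsg.Agent.TCX

open Cfsg.Agent.CG

/-- Two groups with letters killing `R` have a common cover generated by letters killing `R`. -/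
theorem exists_cover {R : List (List ℕ)} {S : List ℕ} (hRS : ∀ r ∈ R, ∀ a ∈ r, a ∈ S) {Γ P : Type} [Group Γ] [Group P]
    {y : ℕ → Γ} {z : ℕ → P} (hy : ∀ r ∈ R, ev y r = 1) (hz : ∀ r ∈ R, ev z r = 1) :
    ∃ (H : Type) (_ : Group H) (v : ℕ → H) (g : H →* Γ) (f : H →* P), (∀ r ∈ R, ev v r = 1) ∧ cl v S = ⊤ ∧
      (∀ a ∈ S, g (v a) = y a) ∧ ∀ a ∈ S, f (v a) = z a := by
  classical
  let w : ℕ → Γ × P := fun a => (y a, z a)
  let v : ℕ → cl w S := fun a => if h : a ∈ S then ⟨w a, gen_mem_cl w h⟩ else 1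
  have hv : ∀ a ∈ S, (cl w S).subtype (v a) = w a := fun a ha => by simp only [v, dif_pos ha]; rfl
  refine ⟨cl w S, inferInstance, v, (MonoidHom.fst Γ P).comp (cl w S).subtype,
    (MonoidHom.snd Γ P).comp (cl w S).subtype, fun r hr => ?_, ?_, fun a ha => ?_, fun a ha => ?_⟩
  · apply (cl w S).subtype_injective
    rw [map_ev, ev_congr _ (gen' := w) fun a ha => hv a (hRS r hr a ha), map_one]
    refine Prod.ext ?_ ?_
    · exact (map_ev w (MonoidHom.fst Γ P) r).trans (hy r hr)
    · exact (map_ev w (MonoidHom.snd Γ P) r).trans (hz r hr)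
  · apply Subgroup.map_injective (cl w S).subtype_injective
    rw [map_cl, ← MonoidHom.range_eq_map, Subgroup.range_subtype]
    unfold cl; congr 1
    exact Set.image_congr fun a ha => hv a ha
  · rw [MonoidHom.comp_apply, hv a ha]; rfl
  · rw [MonoidHom.comp_apply, hv a ha]; rfl

namespace HSx

open CG.HSx

noncomputable def D : List (List ℕ) := [[0],[1],[2],[3],[4],[0,2,2,2,0],[1,3,3,3,1]]
noncomputable def cw : List ℕ := [3,3,0,2,2,0,3,1,3,1,2,2,1,3,3,1,2,0,2,0]
noncomputable def aw : List ℕ := [3,1,3,1,3,3,3]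
noncomputable def bw : List ℕ := [2,2,2,0,2,0,2]
noncomputable def R1 : List (List ℕ) := tcR ++ [[5,6],[6,0,2,2,2,0]]
noncomputable def W1 : List (List ℕ) := tcR ++ [[0,2,2,2,0,1,3,3,3,1],[1,3,3,3,1,0,2,2,2,0],aw ++ bw]

theorem impW : Imp tcR W1 :=
  imp_of_ders (n := 5) (inv := invOf [1,0,3,2,4]) (hs := (List.range 15).map fun i => (i, false, []))
    (by decide +kernel) (invOf_ge' rfl) (by decide +kernel) (by decide +kernel) (by decide +kernel)

theorem impA : Imp R1 HSxA.R :=
  imp_of_ders (n := 7) (inv := invOf HSxA.invL) (hs := HSxA.hints)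
    (by decide +kernel) (invOf_ge' rfl) (by decide +kernel) (by decide +kernel) (by decide +kernel)

theorem impB : Imp (R1 ++ [cw ++ cw]) HSxB.R :=
  imp_of_ders (n := 7) (inv := invOf HSxB.invL) (hs := HSxB.hints)
    (by decide +kernel) (invOf_ge' rfl) (by decide +kernel) (by decide +kernel) (by decide +kernel)

section
variable {Γ : Type} [Group Γ] {y : ℕ → Γ}

theorem rels1 (h : ∀ r ∈ tcR, ev y r = 1) : ∀ r ∈ R1, ev (ext y D) r = 1 :=
  ext_rels (W := W1) (by decide +kernel) (impW Γ y h)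

theorem boundL (h : ∀ r ∈ tcR, ev y r = 1) :
    Finite (cl (ext y D) [2,3,5,6]) ∧ Nat.card (cl (ext y D) [2,3,5,6]) ≤ 240 :=
  HSxA.l2_ok.bound (impA Γ _ (rels1 h)) (HSxA.l3_ok.bound (impA Γ _ (rels1 h)) (bound_nil _))

theorem boundS (h : ∀ r ∈ tcR, ev y r = 1) {M : ℕ}
    (hM : Finite (cl (ext y D) [0,1,2,3,5,6]) ∧ Nat.card (cl (ext y D) [0,1,2,3,5,6]) ≤ M) :
    Finite (cl y tcS) ∧ Nat.card (cl y tcS) ≤ 352 * M := by
  have hle : cl (ext y D) [0,1,2,3] ≤ cl (ext y D) [0,1,2,3,5,6] := cl_mono _ (by decide)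
  have := hM.1
  rw [← cl_ext y (D := D) (by decide +kernel)]
  exact HSxA.l0_ok.bound (impA Γ _ (rels1 h)) ⟨Finite.of_injective _ (Subgroup.inclusion_injective hle),
    (Subgroup.card_le_of_le hle).trans hM.2⟩

theorem boundC (h : ∀ r ∈ tcR, ev y r = 1) (hc : ev y cw * ev y cw = 1) :
    Finite (cl y tcS) ∧ Nat.card (cl y tcS) ≤ 352 * (2100 * Nat.card (cl (ext y D) [2,3,5,6])) := by
  refine boundS h (HSxB.l0_ok.bound (impB Γ _ fun r hr => ?_) ⟨(boundL h).1, le_rfl⟩)
  rcases List.mem_append.1 hr with hr | hr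
  · exact rels1 h r hr
  · rw [List.mem_singleton.1 hr, ← ev_subst, show subst D (cw ++ cw) = cw ++ cw by decide +kernel, ev_append, hc]

end

theorem cw_model : ev CG.HSx.act.gen cw = 1 := tabOK.ev_eq_one_of_oneAll (by decide +kernel)

theorem cw_sq {Γ : Type} [Group Γ] {y : ℕ → Γ} (h : ∀ r ∈ tcR, ev y r = 1) : ev y cw * ev y cw = 1 := by
  obtain ⟨H, _, v, g, f, hv, htop, hg, hf⟩ := exists_cover (S := tcS) (by decide +kernel) h rels
  have hcS : ∀ a ∈ cw, a ∈ tcS := by decide +kernel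
  rw [← ev_congr (fun a => g (v a)) fun a ha => hg a (hcS a ha), ← map_ev, ← map_mul]
  suffices H1 : ev v cw * ev v cw = 1 by rw [H1, map_one]
  have hc : f (ev v cw) = 1 := by
    rw [map_ev, ev_congr (fun a => f (v a)) fun a ha => hf a (hcS a ha), cw_model]
  have htop' : cl (fun a => f (v a)) tcS = ⊤ := by
    rw [← clS]; unfold cl; congr 1
    exact Set.image_congr fun a ha => hf a ha
  have h3 := boundS hv (HSxA.l1_ok.bound (impA H _ (rels1 hv)) (boundL hv))
  rw [htop, Subgroup.card_top] at h3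
  have : Finite H := @Finite.of_equiv _ _ h3.1 Subgroup.topEquiv.toEquiv
  have hr : f.range = ⊤ := by rw [MonoidHom.range_eq_map, ← htop, map_cl, htop']
  have hk : Nat.card f.ker ≤ 3 := by
    have h4 := Subgroup.card_mul_index f.ker
    rw [Subgroup.index_ker, hr, Subgroup.card_top] at h4
    have h5 := Nat.mul_le_mul_left (Nat.card f.ker) le_card
    have h6 := h3.2
    omega
  have hsq : ∀ t : H, t * t ∈ Subgroup.centralizer {ev v cw} := fun t => by
    rw [Subgroup.mem_centralizer_singleton_iff]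
    exact conj_sq_of_card_le_three hk t hc
  have hab : ev v aw * ev v bw = 1 := by
    rw [← ev_append]; exact impW H v hv _ (by decide +kernel)
  have hx : v 0 ∈ Subgroup.centralizer {ev v cw} := by
    have h7 := hv ([4] ++ (aw ++ [4] ++ bw ++ [0]) ++ (aw ++ [4] ++ bw ++ [0]) ++ (aw ++ [4] ++ bw ++ [0]))
      (by decide +kernel)
    simp only [ev_append, ev_singleton] at h7
    rw [eq_inv_of_mul_eq_one_left hab] at h7
    generalize ev v bw = b at h7
    have h8 := mul_mem (inv_mem (mul_mem (hsq (v 4 * b⁻¹)) (hsq b))) (inv_mem (hsq (b⁻¹ * v 4 * b * v 0)))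
    have h9 : ((b⁻¹ * v 4 * b * v 0) * (b⁻¹ * v 4 * b * v 0))⁻¹ = v 4 * (b⁻¹ * v 4 * b * v 0) := by
      rw [eq_comm, eq_inv_iff_mul_eq_one, ← h7]; group
    rw [h9] at h8
    convert h8 using 1
    group
  rw [Subgroup.mem_centralizer_singleton_iff] at hx
  have h01 : v 0 * v 1 = 1 := by simpa using hv [0, 1] (by decide +kernel)
  have hd := HSxA.l4_ok H _ (impA H _ (rels1 hv)) ([0] ++ cw ++ [1] ++ cw) (by decide +kernel)
  rw [← ev_subst, show subst D ([0] ++ cw ++ [1] ++ cw) = [0] ++ cw ++ [1] ++ cw by decide +kernel] at hd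
  simp only [ev_append, ev_singleton] at hd
  rw [hx, mul_assoc (ev v cw), h01, mul_one] at hd
  have hL := boundL hv
  have := hL.1
  refine eq_one_of_card_le f (hL.2.trans ?_) hd (by rw [map_mul, hc, mul_one])
  have h10 := (boundC (y := fun a => f (v a)) (fun r hr => by rw [← map_ev, hv r hr, map_one])
    (by rw [← map_ev, hc, mul_one])).2
  rw [htop', Subgroup.card_top] at h10
  have e : (fun a => f (ext v D a)) = ext (fun a => f (v a)) D := funext fun a => map_ev v f _
  rw [map_cl, e]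
  have h11 := le_card
  omega

theorem bounds : Bounds tcR tcS 177408000 := fun _ _ _ h =>
  ⟨(boundC h (cw_sq h)).1, (boundC h (cw_sq h)).2.trans (by have := (boundL h).2; omega)⟩

instance factBounds : Fact (Bounds tcR tcS 177408000) := ⟨bounds⟩

end HSx

end Cfsg.Agent.TCX
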