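/-! Kernel checker for coset enumerations with coincidences: definitions only. -/

set_option autoImplicit false

namespace Cfsg.Agent.TCX

/-- Binary trees used as lookup tables. -/
inductive Bt (α : Type) : Type
  | leaf (a : α) : Bt α
  | node (l r : Bt α) : Bt α

/-- Lookup by the binary digits of `i`, lowest first. -/
noncomputable def Bt.get {α : Type} (t : Bt α) (i : Nat) : α :=
  Bt.rec (motive := fun _ => Nat → α) (fun a _ => a)
    (fun _ _ ihl ihr i => Nat.rec (motive := fun _ => α) (ihl (Nat.shiftRight i (nat_lit 1)))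
      (fun _ _ => ihr (Nat.shiftRight i (nat_lit 1))) (Nat.land i (nat_lit 1))) t i

/-- A wrapper whose projection makes the kernel evaluate (and remember) its content. -/
structure Wr (α : Type) : Type where
  val : α

/-- List lookup with a default. -/
noncomputable def nthL {α : Type} (l : List α) (d : α) (i : Nat) : α :=
  List.rec (motive := fun _ => Nat → α) (fun _ => d)
    (fun a _ ih i => Nat.rec (motive := fun _ => α) a (fun j _ => ih j) i) l i

/-- Evaluate `y` to a numeral before passing it on. -/
noncomputable def frc {α : Type} (y : Nat) (f : Nat → α) : α :=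
  Nat.rec (motive := fun _ => α) (f (nat_lit 0)) (fun n _ => f (Nat.succ n)) y

section
variable (G : Nat → Nat → Nat) (M1 Mc Mo ne : Nat)

/-- The entry of the letter `a` at the name coded `x`. -/
noncomputable def tb (a x : Nat) : Nat :=
  Nat.rec (motive := fun _ => Nat) (nat_lit 0)
    (fun n _ => Nat.land (Nat.shiftRight (G a n) (Nat.land x Mo)) (nat_lit 0xffffffffffffffff)) (Nat.land x Mc)

/-- Follow the coincidence entries that are earlier than `lim`. -/
noncomputable def nrm (lim : Nat) (fuel : Nat) : Nat → (Nat → Nat) → Nat :=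
  Nat.rec (motive := fun _ => Nat → (Nat → Nat) → Nat) (fun _ _ => nat_lit 1)
    (fun _ ih x k => (fun e => Bool.rec (motive := fun _ => Nat)
      (Bool.rec (motive := fun _ => Nat) (k x) (ih (Nat.land e M1) k)
        (Nat.ble lim (Nat.lor e (nat_lit 0x8000000000000000))))
      (k (Nat.land e M1)) (Nat.ble lim e)) (tb G Mc Mo ne x)) fuel

/-- One step through the table, with coincidences. -/
noncomputable def step (b lim x : Nat) (k : Nat → Nat) : Nat :=
  (fun e => Bool.rec (motive := fun _ => Nat)
    (Bool.rec (motive := fun _ => Nat) (nat_lit 1) (nrm G M1 Mc Mo ne lim (nat_lit 64) (Nat.land e M1) k)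
      (Nat.ble lim (Nat.lor e (nat_lit 0x8000000000000000))))
    (k (Nat.land e M1)) (Nat.ble lim e)) (tb G Mc Mo b x)

/-- Follow `v` (rightmost letter first) without coincidences; compiled once. -/
noncomputable def runF (v : List Nat) : Wr (Nat → Nat → Nat → Nat) :=
  List.rec (motive := fun _ => (Nat → Nat → Nat → Nat) → Wr (Nat → Nat → Nat → Nat)) Wr.mk
    (fun b _ ih f => ih (fun lim r x => Nat.rec (motive := fun _ => Nat) (nat_lit 1)
      (fun n _ => f lim (Nat.sub (Nat.land (Nat.shiftRight (G b n) (Nat.land r Mo)) (nat_lit 0xffffffffffffffff)) lim) x)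
      (Nat.land r Mc))) v (fun _ r x => Nat.xor (Nat.land r M1) x)

/-- Follow `v` (rightmost letter first) with coincidences. -/
noncomputable def runS (v : List Nat) : Wr (Nat → Nat → Nat → Nat) :=
  List.rec (motive := fun _ => (Nat → Nat → Nat → Nat) → Wr (Nat → Nat → Nat → Nat))
    (fun f => ⟨fun lim e x => f lim (Nat.land e M1) x⟩)
    (fun b _ ih f => ih (fun lim z x => step G M1 Mc Mo ne b lim z (fun u => f lim u x))) v (fun _ z x => Nat.xor z x)

/-- The justification `j` of an entry of the letter `a`, as a test on (limit, entry, source). -/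
noncomputable def act (s1 R0 R1 m' x0 : Nat) (rules : Nat → Nat → List Nat) (a j : Nat) :
    Wr (Nat → Nat → Nat → Nat) :=
  Bool.rec (motive := fun _ => Wr (Nat → Nat → Nat → Nat))
    (Bool.rec (motive := fun _ => Wr (Nat → Nat → Nat → Nat))
      (Nat.rec (motive := fun _ => Wr (Nat → Nat → Nat → Nat))
        ⟨fun _ e x => (fun d => Nat.lor (Nat.xor (Nat.land d (Nat.lor M1 (nat_lit 63))) (Nat.add x a))
          (Nat.sub (Nat.succ (Nat.shiftRight (tb G Mc Mo (Nat.succ ne) x) s1)) (Nat.shiftRight d s1)))
          (tb G Mc Mo (Nat.succ ne) e)⟩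
        (fun r _ => Nat.rec (motive := fun _ => Wr (Nat → Nat → Nat → Nat))
          ⟨fun _ e x => Nat.lor (Nat.xor x x0) (Nat.lor (Nat.xor (Nat.land e M1) x0)
            (Nat.xor (Nat.land (Nat.shiftRight m' a) (nat_lit 1)) (nat_lit 1)))⟩
          (fun r' _ => runF G M1 Mc Mo (rules a r')) r) j)
      (frc (Nat.sub j R0) fun r => runS G M1 Mc Mo ne (rules a r)) (Nat.ble R0 j))
    (Bool.rec (motive := fun _ => Wr (Nat → Nat → Nat → Nat))
      ⟨fun lim e x => frc (Nat.mul (nat_lit 64) (Nat.sub j R1)) fun p =>
        Nat.lor (nrm G M1 Mc Mo ne lim (nat_lit 64) p (fun u => Nat.xor u x))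
          (step G M1 Mc Mo ne a lim p (fun u => Nat.xor u (Nat.land e M1)))⟩
      ⟨fun lim e x => frc (Nat.mul (nat_lit 64) (Nat.sub j R1)) fun p => frc (Nat.land e (nat_lit 63)) fun b =>
        Nat.lor (Nat.sub (Nat.succ b) ne)
          (step G M1 Mc Mo ne b lim p fun u => nrm G M1 Mc Mo ne lim (nat_lit 64) p fun q =>
            step G M1 Mc Mo ne b lim q fun v =>
              Nat.mul (Nat.lor (Nat.xor u x) (Nat.xor v (Nat.land e M1)))
                (Nat.lor (Nat.xor v x) (Nat.xor u (Nat.land e M1))))⟩
      (Nat.beq a ne))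
    (Nat.ble R1 j)

end

/-- The disjunction of `p` over the first `n` positions of a chunk; compiled once. -/
noncomputable def unr (p : Nat → Nat → Nat → Nat) (n : Nat) : Wr (Nat → Nat → Nat) :=
  Nat.rec (motive := fun _ => (Nat → Nat → Nat) → Wr (Nat → Nat → Nat)) Wr.mk
    (fun i ih f => frc (Nat.mul (nat_lit 64) i) fun o => ih (fun ch base => Nat.lor (p ch base o) (f ch base))) n
    (fun _ _ => nat_lit 0)

/-- The disjunction of `p` over `lo, …, lo + cnt - 1`. -/
noncomputable def orR (p : Nat → Nat) (lo cnt : Nat) : Nat :=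
  Nat.rec (motive := fun _ => Nat) (nat_lit 0) (fun i ih => Nat.lor (frc (Nat.add lo i) p) ih) cnt

/-- The check of the letter `a` on the chunks `lo ≤ c < lo + cnt`; the first `nf` names need entries. -/
noncomputable def chk (G : Nat → Nat → Nat) (rules : Nat → Nat → List Nat)
    (k M1 Mc Mo ne s1 Mj FL R0 R1 m' lM : Nat) (a nf lo cnt : Nat) : Nat :=
  (fun (ac : Nat → Wr (Nat → Nat → Nat → Nat)) (K : Nat) =>
    orR (fun c => frc (Nat.shiftLeft (Nat.succ c) k) fun base => frc (Nat.sub base (nat_lit 1)) fun n =>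
      frc (Nat.sub K (Nat.sub K (Nat.sub nf (Nat.mul K c)))) fun m =>
      Nat.rec (motive := fun _ => Nat) (nat_lit 0) (fun _ _ => frc (Nat.sub K m) fun m2 =>
        Nat.lor
          ((unr (fun ch base o => (fun e => Nat.rec (motive := fun _ => Nat) (nat_lit 1)
              (fun j _ => Nat.lor (Nat.sub (Nat.land e M1) lM)
                ((ac j).val (Nat.succ (Nat.lor e FL)) e (Nat.add base o)))
              (Nat.land (Nat.shiftRight e s1) Mj))
            (Nat.land (Nat.shiftRight ch o) (nat_lit 0xffffffffffffffff))) m).val (G a n) base)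
          ((unr (fun ch base o => (fun e => Nat.rec (motive := fun _ => Nat) e
              (fun j _ => (ac j).val (Nat.succ (Nat.lor e FL)) e (Nat.add base o))
              (Nat.land (Nat.shiftRight e s1) Mj))
            (Nat.land (Nat.shiftRight ch o) (nat_lit 0xffffffffffffffff))) m2).val
            (Nat.shiftRight (G a n) (Nat.mul (nat_lit 64) m)) (Nat.add base (Nat.mul (nat_lit 64) m))))
        (Nat.lor (G a n) m)) lo cnt)
    (act G M1 Mc Mo ne s1 R0 R1 m' (Nat.shiftLeft (nat_lit 1) k) rules a)
    (Nat.shiftLeft (nat_lit 1) (Nat.sub k (nat_lit 6)))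

/-- The names `lo ≤ i < lo + cnt` coincide with smaller names. -/
noncomputable def chkM (G : Nat → Nat → Nat) (k M1 Mc Mo ne : Nat) (lo cnt : Nat) : Nat :=
  orR (fun i => (fun x => (fun e => Nat.rec (motive := fun _ => Nat) (nat_lit 1)
    (fun _ _ => Nat.sub (Nat.succ (Nat.land e M1)) x) e) (tb G Mc Mo ne x))
    (Nat.add (Nat.shiftLeft (nat_lit 1) k) (Nat.mul (nat_lit 64) i))) lo cnt

/-- The word `v` leads from the name `x` to the name `z` in the final table. -/
noncomputable def trc (G : Nat → Nat → Nat) (M1 Mc Mo ne : Nat) (v : List Nat) (x z : Nat) : Nat :=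
  (runS G M1 Mc Mo ne v).val (nat_lit 0x8000000000000001) x z

/-- The number of names that need an entry for the letter `a`. -/
noncomputable def nfOf (S : List Nat) (Nf a : Nat) : Nat :=
  List.rec (motive := fun _ => Nat) (nat_lit 0)
    (fun b _ ih => Bool.rec (motive := fun _ => Nat) ih Nf (Nat.beq a b)) S

/-- Chunks from a list of trees. -/
noncomputable def gT (TT : List (Bt Nat)) (k : Nat) (a n : Nat) : Nat :=
  (nthL TT (.leaf (nat_lit 0)) a).get (Nat.shiftRight n k)

/-- A rule: the word `a :: v` (or `v`) is the rotation at position `p` of relator number `ri`. -/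
structure Ru where
  v : List Nat
  ri : Nat
  p : Nat

/-- Rule words from a list of trees. -/
noncomputable def rT (RT : List (Bt Ru)) (a r : Nat) : List Nat :=
  ((nthL RT (.leaf ⟨[], nat_lit 0, nat_lit 0⟩) a).get r).v

end Cfsg.Agent.TCX
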