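import Cfsg.Agent.Lib.TCX.Sound

/-! Soundness of the checker for coset enumerations with coincidences: tables. -/

set_option autoImplicit false

namespace Cfsg.Agent.TCX

open Cfsg.Agent.CG

section
variable {Γ : Type*} [Group Γ] {y : ℕ → Γ} {H : Subgroup Γ}
  {G : ℕ → ℕ → ℕ} {q d k M1 Mc Mo ne s1 s2 FL : ℕ}

/-- The coset of a name. -/
noncomputable abbrev cs (y : ℕ → Γ) (H : Subgroup Γ) (G : ℕ → ℕ → ℕ) (M1 Mc Mo ne s1 : ℕ) : ℕ → Γ ⧸ H :=
  cos y H (tb G Mc Mo (ne + 1)) (M1 ||| 63) s1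

theorem cs_land (L : Lay q d k M1 Mc Mo ne s1 s2 FL) (x : ℕ) :
    cs y H G M1 Mc Mo ne s1 (x &&& M1) = cs y H G M1 Mc Mo ne s1 x := cos_congr (tb_land L _ x)

theorem act_sound (L : Lay q d k M1 Mc Mo ne s1 s2 FL) {R0 R1 m' x0 : ℕ} {rules : ℕ → ℕ → List ℕ} {lim a j e x : ℕ}
    (hg : Good y (cs y H G M1 Mc Mo ne s1) G Mc Mo ne lim) (hE : y ne = 1) (hd : 2 ^ s2 ∣ lim) (ha : a ≤ ne)
    (hr : ∀ r, (∀ b ∈ rules a r, b ≤ ne) ∧ y a * ev y (rules a r) = 1)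
    (hm : ∀ b, bit m' b = true → y b ∈ H) (h0 : tb G Mc Mo (ne + 1) x0 >>> s1 = 0) (hx : x ≠ 0) (hx' : x % 64 = 0)
    (h : (act G M1 Mc Mo ne s1 R0 R1 m' x0 rules a j).val lim e x = 0) :
    y a • cs y H G M1 Mc Mo ne s1 x = cs y H G M1 Mc Mo ne s1 e := by
  have hc := cs_land (y := y) (H := H) (G := G) L
  have fin : ∀ r, ev y (rules a r) • cs y H G M1 Mc Mo ne s1 e = cs y H G M1 Mc Mo ne s1 x →
      y a • cs y H G M1 Mc Mo ne s1 x = cs y H G M1 Mc Mo ne s1 e := fun r h => by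
    rw [← h, ← mul_smul, (hr r).2, one_smul]
  unfold act at h
  rcases ble_cases (P := fun w : Wr (ℕ → ℕ → ℕ → ℕ) => w.val lim e x = 0) _ _ _ _ h with ⟨-, h⟩ | ⟨-, h⟩
  · rcases ble_cases (P := fun w : Wr (ℕ → ℕ → ℕ → ℕ) => w.val lim e x = 0) _ _ _ _ h with ⟨-, h⟩ | ⟨-, h⟩
    · rcases j with _ | _ | r
      · have h : Nat.lor (Nat.xor (tb G Mc Mo (ne + 1) e &&& (M1 ||| 63)) (x + a))
          ((tb G Mc Mo (ne + 1) x >>> s1 + 1) - (tb G Mc Mo (ne + 1) e >>> s1)) = 0 := h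
        rw [lor_eq_zero, xor_eq_zero'] at h
        exact cos_def h.1 hx' (by have := L.hne; omega) (by omega)
      · have h : Nat.lor (Nat.xor x x0) (Nat.lor (Nat.xor (e &&& M1) x0)
          (Nat.xor (Nat.land (Nat.shiftRight m' a) 1) 1)) = 0 := h
        rw [lor_eq_zero, lor_eq_zero, xor_eq_zero', xor_eq_zero', xor_eq_zero'] at h
        rw [← hc e, h.1, h.2.1, cs, cos_base h0]
        have : y a • ((1 : Γ) : Γ ⧸ H) = ((y a * 1 : Γ) : Γ ⧸ H) := rfl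
        rw [this, QuotientGroup.eq]
        simpa using hm a ((beq_iff _ _).2 h.2.2)
      · exact fin r (runF_sound hg hc hd L.hs2 (hr r).1 hx h)
    · rw [frc_eq] at h
      exact fin _ (runS_sound hg hE hc (hr _).1 h)
  · cases hb : Nat.beq a ne
    · rw [hb] at h
      dsimp only at h
      rw [frc_eq, lor_eq_zero] at h
      obtain ⟨u, u1, u2⟩ := nrm_sound hg hE hc _ _ _ h.1
      obtain ⟨v, v1, v2⟩ := step_sound hg hE hc ha h.2
      rw [xor_eq_zero'] at u2 v2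
      rw [← u2, u1, v1, v2]; exact hc e
    · rw [hb] at h
      dsimp only at h
      rw [frc_eq, frc_eq, lor_eq_zero] at h
      have hb' : Nat.land e (nat_lit 63) ≤ ne := by
        have : Nat.land e (nat_lit 63) + 1 - ne = 0 := h.1
        omega
      obtain ⟨u, u1, u2⟩ := step_sound hg hE hc hb' h.2
      obtain ⟨p, p1, p2⟩ := nrm_sound hg hE hc _ _ _ u2
      obtain ⟨v, v1, v2⟩ := step_sound hg hE hc hb' p2
      have e1 : cs y H G M1 Mc Mo ne s1 u = cs y H G M1 Mc Mo ne s1 v := by rw [← u1, ← v1, p1]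
      rw [(beq_iff _ _).1 hb, hE, one_smul, ← hc e]
      rcases Nat.mul_eq_zero.1 v2 with h3 | h3 <;> rw [lor_eq_zero, xor_eq_zero', xor_eq_zero'] at h3
      · rw [← h3.1, e1, h3.2]; rfl
      · rw [← h3.1, ← e1, h3.2]; rfl

theorem chk_append {rules : ℕ → ℕ → List ℕ} {Mj R0 R1 m' lM a nf lo c c' : ℕ}
    (h1 : chk G rules k M1 Mc Mo ne s1 Mj FL R0 R1 m' lM a nf lo c = 0)
    (h2 : chk G rules k M1 Mc Mo ne s1 Mj FL R0 R1 m' lM a nf (lo + c) c' = 0) :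
    chk G rules k M1 Mc Mo ne s1 Mj FL R0 R1 m' lM a nf lo (c + c') = 0 := orR_append h1 h2

theorem chkM_append {lo c c' : ℕ} (h1 : chkM G k M1 Mc Mo ne lo c = 0)
    (h2 : chkM G k M1 Mc Mo ne (lo + c) c' = 0) : chkM G k M1 Mc Mo ne lo (c + c') = 0 := orR_append h1 h2

/-- What the check of one letter says about one chunk position. -/
theorem chk_pos (L : Lay q d k M1 Mc Mo ne s1 s2 FL) {rules : ℕ → ℕ → List ℕ} {Mj R0 R1 m' lM a nf : ℕ}
    (h : chk G rules k M1 Mc Mo ne s1 Mj FL R0 R1 m' lM a nf 0 (2 ^ d - 1) = 0) {c i : ℕ} (hc : c + 1 < 2 ^ d)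
    (hi : i < 2 ^ q) {e : ℕ} (he : e = (G a ((c + 1) * 2 ^ k - 1) >>> (64 * i)) &&& 0xffffffffffffffff) :
    (e ≠ 0 → ∃ j, (act G M1 Mc Mo ne s1 R0 R1 m' (2 ^ k) rules a j).val ((e ||| FL) + 1) e
      ((c + 1) * 2 ^ k + 64 * i) = 0) ∧ (2 ^ q * c + i < nf → e ≠ 0 ∧ e &&& M1 ≤ lM) := by
  unfold chk at h
  dsimp only at h
  have h := (orR_iff _ _ _).1 h c (Nat.zero_le _) (by omega)
  rw [frc_eq, frc_eq, frc_eq] at h
  have e1 : Nat.shiftLeft (Nat.succ c) k = (c + 1) * 2 ^ k := Nat.shiftLeft_eq _ _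
  have e2 : Nat.shiftLeft (nat_lit 1) (Nat.sub k (nat_lit 6)) = 2 ^ q := by
    rw [L.hk]; exact Nat.one_shiftLeft _
  have e3 : Nat.shiftLeft (nat_lit 1) k = 2 ^ k := Nat.one_shiftLeft _
  rw [e1, e2, e3] at h
  have e4 : Nat.sub ((c + 1) * 2 ^ k) (nat_lit 1) = (c + 1) * 2 ^ k - 1 := rfl
  rw [e4] at h
  generalize G a ((c + 1) * 2 ^ k - 1) = ch at h he
  generalize hm : Nat.sub (2 ^ q) (Nat.sub (2 ^ q) (Nat.sub nf (Nat.mul (2 ^ q) c))) = m at h
  have hm : m = 2 ^ q - (2 ^ q - (nf - 2 ^ q * c)) := hm.symm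
  cases hz : Nat.lor ch m with
  | zero =>
    obtain ⟨z1, z2⟩ := (lor_eq_zero _ _).1 hz
    have : e = 0 := by rw [he, z1]; simp
    exact ⟨fun h => (h this).elim, fun h => by omega⟩
  | succ n =>
    rw [hz] at h
    dsimp only at h
    rw [frc_eq, lor_eq_zero] at h
    by_cases him : i < m
    · have h3 := unr_zero h.1 i him
      have e5 : Nat.land (Nat.shiftRight ch (64 * i)) (nat_lit 0xffffffffffffffff) = e := he.symm
      rw [e5] at h3
      cases hj : Nat.land (Nat.shiftRight e s1) Mj with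
      | zero => rw [hj] at h3; cases h3
      | succ j =>
        rw [hj] at h3
        dsimp only at h3
        rw [lor_eq_zero] at h3
        refine ⟨fun _ => ⟨j, h3.2⟩, fun _ => ⟨?_, Nat.sub_eq_zero_iff_le.1 h3.1⟩⟩
        rintro rfl
        have : Nat.land (Nat.shiftRight 0 s1) Mj = 0 := by
          change (0 >>> s1) &&& Mj = 0
          simp
        omega
    · refine ⟨fun hne => ?_, fun h => by omega⟩
      have h3 := unr_zero h.2 (i - m) (by change i - m < 2 ^ q - m; omega)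
      have e5 : Nat.land (Nat.shiftRight (Nat.shiftRight ch (Nat.mul (nat_lit 64) m)) (64 * (i - m)))
          (nat_lit 0xffffffffffffffff) = e := by
        rw [he]
        change (ch >>> (64 * m) >>> (64 * (i - m))) &&& _ = _
        rw [← Nat.shiftRight_add]
        congr 2; omega
      rw [e5] at h3
      cases hj : Nat.land (Nat.shiftRight e s1) Mj with
      | zero => rw [hj] at h3; exact (hne h3).elim
      | succ j =>
        rw [hj] at h3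
        refine ⟨j, ?_⟩
        have e6 : (c + 1) * 2 ^ k + 64 * i = Nat.add (Nat.add ((c + 1) * 2 ^ k) (Nat.mul (nat_lit 64) m))
          (64 * (i - m)) := by
          change _ = (c + 1) * 2 ^ k + 64 * m + 64 * (i - m)
          omega
        rw [e6]; exact h3

theorem chk_ent (L : Lay q d k M1 Mc Mo ne s1 s2 FL) {rules : ℕ → ℕ → List ℕ} {Mj R0 R1 m' lM a nf : ℕ}
    (h : chk G rules k M1 Mc Mo ne s1 Mj FL R0 R1 m' lM a nf 0 (2 ^ d - 1) = 0) (x : ℕ) :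
    (tb G Mc Mo a x ≠ 0 → x &&& M1 ≠ 0 ∧ ∃ j, (act G M1 Mc Mo ne s1 R0 R1 m' (2 ^ k) rules a j).val
      ((tb G Mc Mo a x ||| FL) + 1) (tb G Mc Mo a x) (x &&& M1) = 0) ∧
    (2 ^ k ≤ x &&& M1 → x &&& M1 < 2 ^ k + 64 * nf → tb G Mc Mo a x ≠ 0 ∧ tb G Mc Mo a x &&& M1 ≤ lM) := by
  obtain ⟨h1, h2, h3⟩ := L.split x
  have hi : x / 64 % 2 ^ q < 2 ^ q := Nat.mod_lt _ (Nat.two_pow_pos q)
  have hc : x / 2 ^ (q + 6) % 2 ^ d < 2 ^ d := Nat.mod_lt _ (Nat.two_pow_pos d)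
  rw [← L.hk] at h1 hc
  have hk : 2 ^ k = 64 * 2 ^ q := by rw [L.hk, pow_add]; ring
  generalize x / 64 % 2 ^ q = i at h2 hi
  rcases hcc : x / 2 ^ k % 2 ^ d with _ | c
  · rw [hcc, zero_mul] at h1
    refine ⟨fun h => (h (tb_zero h1)).elim, fun h => ?_⟩
    rw [h3, h1, h2] at h
    omega
  · rw [hcc] at h1 hc
    have hp : 0 < (c + 1) * 2 ^ k := Nat.mul_pos (by omega) (Nat.two_pow_pos k)
    have e1 : tb G Mc Mo a x = _ := tb_succ (n := (c + 1) * 2 ^ k - 1) (by omega)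
    rw [h2] at e1
    obtain ⟨t1, t2⟩ := chk_pos L h hc hi e1
    rw [h3, h1, h2]
    refine ⟨fun h => ⟨by omega, t1 h⟩, fun _ h => t2 ?_⟩
    rw [hk] at h
    nlinarith

theorem good_all (L : Lay q d k M1 Mc Mo ne s1 s2 FL) {rules : ℕ → ℕ → List ℕ} {Mj R0 R1 m' lM : ℕ} {nf : ℕ → ℕ}
    (h : ∀ a, a ≤ ne → chk G rules k M1 Mc Mo ne s1 Mj FL R0 R1 m' lM a (nf a) 0 (2 ^ d - 1) = 0) (hE : y ne = 1)
    (hr : ∀ a, a ≤ ne → ∀ r, (∀ b ∈ rules a r, b ≤ ne) ∧ y a * ev y (rules a r) = 1)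
    (hm : ∀ b, bit m' b = true → y b ∈ H) (h0 : tb G Mc Mo (ne + 1) (2 ^ k) >>> s1 = 0) :
    (∀ lim, 0x8000000000000000 < lim → Good y (cs y H G M1 Mc Mo ne s1) G Mc Mo ne lim) ∧
    ∀ a, a ≤ ne → ∀ x, tb G Mc Mo a x ≠ 0 →
      y a • cs y H G M1 Mc Mo ne s1 x = cs y H G M1 Mc Mo ne s1 (tb G Mc Mo a x) := by
  have hle : ∀ e : ℕ, e ||| 0x8000000000000000 ≤ e ||| FL := fun e => by
    rw [← L.hF, Nat.or_comm FL, ← Nat.or_assoc]; exact Nat.left_le_or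
  have st : ∀ a, a ≤ ne → ∀ x, tb G Mc Mo a x ≠ 0 →
      Good y (cs y H G M1 Mc Mo ne s1) G Mc Mo ne ((tb G Mc Mo a x ||| FL) + 1) →
      y a • cs y H G M1 Mc Mo ne s1 x = cs y H G M1 Mc Mo ne s1 (tb G Mc Mo a x) := by
    intro a ha x hx hg
    obtain ⟨t1, j, t2⟩ := (chk_ent L (h a ha) x).1 hx
    rw [← cs_land L x]
    exact act_sound L hg hE (dvd_lim L.hFL) ha (hr a ha) hm h0 t1 (L.mod64 x) t2
  have key : ∀ n lim, 0x8000000000000000 < lim → 2 ^ 64 ≤ lim + n →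
      Good y (cs y H G M1 Mc Mo ne s1) G Mc Mo ne lim := by
    intro n
    induction n with
    | zero =>
      intro lim _ h2 b _ z hz
      have : tb G Mc Mo b z ||| 0x8000000000000000 < 2 ^ 64 := Nat.or_lt_two_pow (tb_lt b z) (by norm_num)
      omega
    | succ n ih =>
      intro lim h1 h2 b hb z hz
      have := hle (tb G Mc Mo b z)
      refine st b hb z (fun h0 => ?_) (ih _ (by omega) (by omega))
      rw [h0, Nat.zero_or] at hz
      omega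
  have key2 : ∀ lim, 0x8000000000000000 < lim → Good y (cs y H G M1 Mc Mo ne s1) G Mc Mo ne lim :=
    fun lim h => key (2 ^ 64) lim h (by omega)
  refine ⟨key2, fun a ha x hx => st a ha x hx (key2 _ ?_)⟩
  have h1 := hle (tb G Mc Mo a x)
  have h2 : 0x8000000000000000 ≤ tb G Mc Mo a x ||| 0x8000000000000000 := Nat.right_le_or
  omega

open Pointwise in
theorem cosets_of_good (L : Lay q d k M1 Mc Mo ne s1 s2 FL) {rules : ℕ → ℕ → List ℕ} {Mj R0 R1 m' lM Nf Nm : ℕ}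
    {S : List ℕ} (hS : ∀ a ∈ S, a ≤ ne ∧ chk G rules k M1 Mc Mo ne s1 Mj FL R0 R1 m' lM a Nf 0 (2 ^ d - 1) = 0)
    (hE : y ne = 1) (h0 : tb G Mc Mo (ne + 1) (2 ^ k) >>> s1 = 0)
    (hf : ∀ a, a ≤ ne → ∀ x, tb G Mc Mo a x ≠ 0 →
      y a • cs y H G M1 Mc Mo ne s1 x = cs y H G M1 Mc Mo ne s1 (tb G Mc Mo a x))
    (hM : chkM G k M1 Mc Mo ne Nf (Nm - Nf) = 0) (hN : 0 < Nf) (hl : lM < 2 ^ k + 64 * Nm)
    (hb : 2 ^ k + 64 * Nf ≤ M1 + 64) :
    ∀ g ∈ cl y S, ∃ i, i < Nf ∧ (g : Γ ⧸ H) = cs y H G M1 Mc Mo ne s1 (2 ^ k + 64 * i) := by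
  have hk : 2 ^ k = 64 * 2 ^ q := by rw [L.hk, pow_add]; ring
  have hfix : ∀ x, x % 64 = 0 → x ≤ M1 → x &&& M1 = x := by
    intro x h1 h2
    have hp : 0 < 2 ^ (q + d) := Nat.two_pow_pos _
    rw [L.hM1] at h2
    rw [L.hM1, land_mask, Nat.mod_eq_of_lt (by omega)]
    omega
  have hb0 : cs y H G M1 Mc Mo ne s1 (2 ^ k) = ((1 : Γ) : Γ ⧸ H) := cos_base h0
  have red : ∀ t, t ≤ lM → t % 64 = 0 →
      ∃ i, i < Nf ∧ cs y H G M1 Mc Mo ne s1 t = cs y H G M1 Mc Mo ne s1 (2 ^ k + 64 * i) := by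
    intro t
    induction t using Nat.strong_induction_on with
    | _ t ih =>
      intro h1 h2
      by_cases h3 : t < 2 ^ k
      · refine ⟨0, hN, ?_⟩
        have : t &&& Mc = 0 := by
          rw [(L.split t).1, ← L.hk, Nat.div_eq_of_lt h3]; simp
        rw [mul_zero, add_zero, hb0]
        exact cos_base (by rw [tb_zero this]; simp)
      have e1 : t = 2 ^ k + 64 * ((t - 2 ^ k) / 64) := by omega
      generalize (t - 2 ^ k) / 64 = i at e1
      by_cases h4 : i < Nf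
      · exact ⟨i, h4, by rw [e1]⟩
      unfold chkM at hM
      have h5 := (orR_iff _ _ _).1 hM i (by omega) (by omega)
      dsimp only at h5
      have e2 : Nat.add (Nat.shiftLeft (nat_lit 1) k) (Nat.mul (nat_lit 64) i) = t := by
        rw [e1, ← Nat.one_shiftLeft]; rfl
      rw [e2] at h5
      cases he : tb G Mc Mo ne t with
      | zero => rw [he] at h5; cases h5
      | succ n =>
        rw [he] at h5
        have h5 : ((n + 1) &&& M1) + 1 - t = 0 := h5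
        have h6 := hf ne le_rfl t (by omega)
        rw [hE, one_smul, he, ← cs_land L (n + 1)] at h6
        rw [h6]
        exact ih _ (by omega) (by omega) (L.mod64 _)
  set C : Set (Γ ⧸ H) := Set.range (fun i : Fin Nf => cs y H G M1 Mc Mo ne s1 (2 ^ k + 64 * i)) with hC
  have hfin : C.Finite := Set.finite_range _
  have hle : cl y S ≤ MulAction.stabilizer Γ C := by
    apply cl_le
    intro a ha
    rw [MulAction.mem_stabilizer_set_iff_smul_set_subset hfin]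
    rintro _ ⟨_, ⟨i, rfl⟩, rfl⟩
    have hi := i.2
    have e1 := hfix (2 ^ k + 64 * i) (by omega) (by omega)
    obtain ⟨t1, t2⟩ := (chk_ent L (hS a ha).2 (2 ^ k + 64 * i)).2 (by omega) (by omega)
    obtain ⟨j, hj, e⟩ := red _ t2 (L.mod64 _)
    exact ⟨⟨j, hj⟩, by simp only; rw [hf a (hS a ha).1 _ t1, ← e, cs_land L]⟩
  intro g hg
  have h1 : ((1 : Γ) : Γ ⧸ H) ∈ C := ⟨⟨0, hN⟩, by simpa using hb0⟩
  have : g • ((1 : Γ) : Γ ⧸ H) ∈ g • C := Set.smul_mem_smul_set h1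
  rw [hle hg] at this
  obtain ⟨i, hi⟩ := this
  refine ⟨i, i.2, ?_⟩
  simp only at hi
  rw [hi]
  show _ = ((g * 1 : Γ) : Γ ⧸ H)
  rw [mul_one]

end

end Cfsg.Agent.TCX
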