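import Cfsg.Agent.Lib.TCX.Def
import Cfsg.Agent.Lib.CG.TC

/-! Soundness of the checker for coset enumerations with coincidences. -/

set_option autoImplicit false

namespace Cfsg.Agent.TCX

open Cfsg.Agent.CG

@[simp] theorem frc_eq {α : Type} (y : ℕ) (f : ℕ → α) : frc y f = f y := by
  cases y <;> rfl

theorem lor_eq_zero (a b : ℕ) : Nat.lor a b = 0 ↔ a = 0 ∧ b = 0 := Nat.or_eq_zero_iff

theorem xor_eq_zero' (a b : ℕ) : Nat.xor a b = 0 ↔ a = b := Nat.xor_eq_zero_iff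

theorem orR_iff (p : ℕ → ℕ) (lo cnt : ℕ) : orR p lo cnt = 0 ↔ ∀ i, lo ≤ i → i < lo + cnt → p i = 0 := by
  induction cnt with
  | zero => exact ⟨fun _ i h1 h2 => by omega, fun _ => rfl⟩
  | succ c ih =>
    have : orR p lo (c + 1) = Nat.lor (frc (lo + c) p) (orR p lo c) := rfl
    rw [this, lor_eq_zero, ih, frc_eq]
    constructor
    · rintro ⟨h1, h2⟩ i hi hi'
      by_cases h : i = lo + c
      · rw [h]; exact h1
      · exact h2 i hi (by omega)
    · intro h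
      exact ⟨h _ (by omega) (by omega), fun i hi hi' => h i hi (by omega)⟩

theorem orR_append {p : ℕ → ℕ} {lo a b : ℕ} (h1 : orR p lo a = 0) (h2 : orR p (lo + a) b = 0) :
    orR p lo (a + b) = 0 := by
  rw [orR_iff] at *
  intro i hi hi'
  by_cases h : i < lo + a
  · exact h1 i hi h
  · exact h2 i (by omega) (by omega)

theorem unr_zero {p : ℕ → ℕ → ℕ → ℕ} {n ch base : ℕ} (h : (unr p n).val ch base = 0) :
    ∀ i, i < n → p ch base (64 * i) = 0 := by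
  have key : ∀ (n : ℕ) (f : ℕ → ℕ → ℕ),
      (Nat.rec (motive := fun _ => (ℕ → ℕ → ℕ) → Wr (ℕ → ℕ → ℕ)) Wr.mk
        (fun i ih f => frc (Nat.mul (nat_lit 64) i) fun o =>
          ih (fun ch base => Nat.lor (p ch base o) (f ch base))) n f).val ch base = 0 →
      f ch base = 0 ∧ ∀ i, i < n → p ch base (64 * i) = 0 := by
    intro n
    induction n with
    | zero => intro f h; exact ⟨h, fun i hi => by omega⟩
    | succ n ih =>
      intro f h
      dsimp only at h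
      rw [frc_eq] at h
      obtain ⟨h1, h2⟩ := ih _ h
      rw [lor_eq_zero] at h1
      refine ⟨h1.2, fun i hi => ?_⟩
      by_cases e : i = n
      · rw [e]; exact h1.1
      · exact h2 i (by omega)
  exact (key n _ h).2

theorem land_mask (x a b : ℕ) : x &&& ((2 ^ a - 1) * 2 ^ b) = (x / 2 ^ b % 2 ^ a) * 2 ^ b := by
  apply Nat.eq_of_testBit_eq
  intro i
  rw [Nat.testBit_and, Nat.testBit_mul_two_pow, Nat.testBit_mul_two_pow, Nat.testBit_two_pow_sub_one,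
    Nat.testBit_mod_two_pow, Nat.testBit_div_two_pow]
  by_cases h : b ≤ i
  · rw [Nat.sub_add_cancel h]; simp [h, Bool.and_comm]
  · simp [h]

theorem land_of_lt {x m s : ℕ} (h : m < 2 ^ s) : x &&& m = (x % 2 ^ s) &&& m := by
  have h1 : x &&& m < 2 ^ s := lt_of_le_of_lt Nat.and_le_right h
  rw [← Nat.mod_eq_of_lt h1, Nat.and_mod_two_pow, Nat.mod_eq_of_lt h]

theorem sub_land {e lim m s : ℕ} (h1 : 2 ^ s ∣ lim) (h2 : lim ≤ e) (h : m < 2 ^ s) :
    (e - lim) &&& m = e &&& m := by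
  rw [land_of_lt h, land_of_lt (x := e) h]
  obtain ⟨c, rfl⟩ := h1
  congr 1
  conv_rhs => rw [← Nat.sub_add_cancel h2, Nat.add_mul_mod_self_left]

theorem dvd_lim {e FL s : ℕ} (h : FL % 2 ^ s = 2 ^ s - 1) : 2 ^ s ∣ (e ||| FL) + 1 := by
  have hp : 0 < 2 ^ s := Nat.two_pow_pos s
  have h1 : (e ||| FL) % 2 ^ s = 2 ^ s - 1 := by
    have h2 : (e ||| FL) % 2 ^ s < 2 ^ s := Nat.mod_lt _ hp
    have h3 : 2 ^ s - 1 ≤ (e ||| FL) % 2 ^ s := by rw [Nat.or_mod_two_pow, h]; exact Nat.right_le_or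
    omega
  refine ⟨(e ||| FL) / 2 ^ s + 1, ?_⟩
  have := Nat.div_add_mod (e ||| FL) (2 ^ s)
  rw [mul_add]; omega

/-- The numerical side conditions on the layout of the entries. -/
structure Lay (q d k M1 Mc Mo ne s1 s2 FL : ℕ) : Prop where
  hk : k = q + 6
  hs1 : s1 = q + d + 6
  hM1 : M1 = (2 ^ (q + d) - 1) * 2 ^ 6
  hMc : Mc = (2 ^ d - 1) * 2 ^ (q + 6)
  hMo : Mo = (2 ^ q - 1) * 2 ^ 6
  hs2 : M1 < 2 ^ s2
  hFL : FL % 2 ^ s2 = 2 ^ s2 - 1
  hF : FL ||| 0x8000000000000000 = FL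
  hne : ne < 64

instance instDecidableLay (q d k M1 Mc Mo ne s1 s2 FL : ℕ) : Decidable (Lay q d k M1 Mc Mo ne s1 s2 FL) :=
  decidable_of_iff (k = q + 6 ∧ s1 = q + d + 6 ∧ M1 = (2 ^ (q + d) - 1) * 2 ^ 6 ∧ Mc = (2 ^ d - 1) * 2 ^ (q + 6) ∧
      Mo = (2 ^ q - 1) * 2 ^ 6 ∧ M1 < 2 ^ s2 ∧ FL % 2 ^ s2 = 2 ^ s2 - 1 ∧ FL ||| 0x8000000000000000 = FL ∧ ne < 64)
    ⟨fun ⟨a, b, c, d, e, f, g, h, i⟩ => ⟨a, b, c, d, e, f, g, h, i⟩,
     fun ⟨a, b, c, d, e, f, g, h, i⟩ => ⟨a, b, c, d, e, f, g, h, i⟩⟩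

section
variable {q d k M1 Mc Mo ne s1 s2 FL : ℕ}

theorem Lay.split (L : Lay q d k M1 Mc Mo ne s1 s2 FL) (x : ℕ) :
    x &&& Mc = (x / 2 ^ (q + 6) % 2 ^ d) * 2 ^ (q + 6) ∧ x &&& Mo = 64 * (x / 64 % 2 ^ q) ∧
      x &&& M1 = (x &&& Mc) + (x &&& Mo) := by
  have h1 : x &&& Mc = (x / 2 ^ (q + 6) % 2 ^ d) * 2 ^ (q + 6) := by rw [L.hMc, land_mask]
  have h2 : x &&& Mo = 64 * (x / 64 % 2 ^ q) := by rw [L.hMo, land_mask, mul_comm]; rfl
  refine ⟨h1, h2, ?_⟩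
  rw [h1, h2, L.hM1, land_mask, pow_add 2 q d, Nat.mod_mul, Nat.div_div_eq_div_mul, pow_add 2 q 6,
    mul_comm (2 ^ 6) (2 ^ q)]
  norm_num
  ring

theorem Lay.M1_Mc (L : Lay q d k M1 Mc Mo ne s1 s2 FL) (x : ℕ) : (x &&& M1) &&& Mc = x &&& Mc := by
  rw [Nat.and_assoc]; congr 1
  rw [L.hM1, L.hMc]
  apply Nat.eq_of_testBit_eq
  intro i
  simp only [Nat.testBit_and, Nat.testBit_mul_two_pow, Nat.testBit_two_pow_sub_one]
  by_cases h1 : q + 6 ≤ i <;> by_cases h2 : i - (q + 6) < d <;> simp [h1, h2] <;> omega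

theorem Lay.M1_Mo (L : Lay q d k M1 Mc Mo ne s1 s2 FL) (x : ℕ) : (x &&& M1) &&& Mo = x &&& Mo := by
  rw [Nat.and_assoc]; congr 1
  rw [L.hM1, L.hMo]
  apply Nat.eq_of_testBit_eq
  intro i
  simp only [Nat.testBit_and, Nat.testBit_mul_two_pow, Nat.testBit_two_pow_sub_one]
  by_cases h1 : 6 ≤ i <;> by_cases h2 : i - 6 < q <;> simp [h1, h2] <;> omega

theorem Lay.mod64 (L : Lay q d k M1 Mc Mo ne s1 s2 FL) (x : ℕ) : (x &&& M1) % 64 = 0 := by
  rw [L.hM1, land_mask]; exact Nat.mul_mod_left _ _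

variable {G : ℕ → ℕ → ℕ}

theorem tb_land (L : Lay q d k M1 Mc Mo ne s1 s2 FL) (a x : ℕ) : tb G Mc Mo a (x &&& M1) = tb G Mc Mo a x := by
  unfold tb
  have h1 : Nat.land (x &&& M1) Mc = Nat.land x Mc := L.M1_Mc x
  have h2 : Nat.land (x &&& M1) Mo = Nat.land x Mo := L.M1_Mo x
  rw [h1, h2]

theorem tb_lt (a x : ℕ) : tb G Mc Mo a x < 2 ^ 64 := by
  unfold tb
  cases Nat.land x Mc with
  | zero => exact Nat.two_pow_pos 64
  | succ n => exact lt_of_le_of_lt Nat.and_le_right (by norm_num)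

theorem tb_succ {a x n : ℕ} (h : x &&& Mc = n + 1) :
    tb G Mc Mo a x = (G a n >>> (x &&& Mo)) &&& 0xffffffffffffffff := by
  unfold tb
  have : Nat.land x Mc = n + 1 := h
  rw [this]; rfl

theorem tb_zero {a x : ℕ} (h : x &&& Mc = 0) : tb G Mc Mo a x = 0 := by
  unfold tb
  have : Nat.land x Mc = 0 := h
  rw [this]; rfl

end

section
variable {Γ : Type*} [Group Γ] (y : ℕ → Γ) (H : Subgroup Γ) (D : ℕ → ℕ) (Md s1 : ℕ)

/-- The coset named by a code, from the table `D` of definitions. -/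
noncomputable def cos (x : ℕ) : Γ ⧸ H :=
  if D ((D x &&& Md) - (D x &&& Md) % 64) >>> s1 < D x >>> s1 then
    y ((D x &&& Md) % 64) • cos ((D x &&& Md) - (D x &&& Md) % 64)
  else ((1 : Γ) : Γ ⧸ H)
termination_by D x >>> s1

variable {y H D Md s1}

theorem cos_congr {x x' : ℕ} (h : D x = D x') : cos y H D Md s1 x = cos y H D Md s1 x' := by
  rw [cos, cos.eq_def y H D Md s1 x', h]

theorem cos_base {x : ℕ} (h : D x >>> s1 = 0) : cos y H D Md s1 x = ((1 : Γ) : Γ ⧸ H) := by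
  rw [cos, h]; simp

theorem cos_def {x t a : ℕ} (h1 : D t &&& Md = x + a) (hx : x % 64 = 0) (ha : a < 64)
    (h2 : D x >>> s1 < D t >>> s1) : y a • cos y H D Md s1 x = cos y H D Md s1 t := by
  conv_rhs => rw [cos]
  have e1 : (x + a) % 64 = a := by omega
  rw [h1, e1, Nat.add_sub_cancel, if_pos h2]

end

section
variable {Γ : Type*} [Group Γ] {y : ℕ → Γ} {X : Type*} [MulAction Γ X] {c : ℕ → X}
  {G : ℕ → ℕ → ℕ} {M1 Mc Mo ne : ℕ}

/-- The entries that may be used below the limit `lim` are true. -/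
def Good (y : ℕ → Γ) (c : ℕ → X) (G : ℕ → ℕ → ℕ) (Mc Mo ne lim : ℕ) : Prop :=
  ∀ b, b ≤ ne → ∀ z, lim ≤ tb G Mc Mo b z ||| 0x8000000000000000 → y b • c z = c (tb G Mc Mo b z)

theorem ble_cases {α : Type} {P : α → Prop} (a b : ℕ) (u v : α) (h : P (Bool.rec (motive := fun _ => α) u v (Nat.ble a b))) :
    (b < a ∧ P u) ∨ (a ≤ b ∧ P v) := by
  cases e : Nat.ble a b
  · rw [e] at h
    refine Or.inl ⟨?_, h⟩
    by_contra h'
    have := (ble_iff a b).2 (by omega)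
    rw [e] at this; cases this
  · rw [e] at h; exact Or.inr ⟨(ble_iff a b).1 e, h⟩

theorem nrm_sound {lim : ℕ} (hg : Good y c G Mc Mo ne lim) (hE : y ne = 1) (hc : ∀ x, c (x &&& M1) = c x) :
    ∀ (fuel x : ℕ) (k : ℕ → ℕ), nrm G M1 Mc Mo ne lim fuel x k = 0 → ∃ u, c u = c x ∧ k u = 0 := by
  intro fuel
  induction fuel with
  | zero => intro x k h; cases h
  | succ f ih =>
    intro x k h
    have h : Bool.rec (motive := fun _ => ℕ)
      (Bool.rec (motive := fun _ => ℕ) (k x) (nrm G M1 Mc Mo ne lim f (tb G Mc Mo ne x &&& M1) k)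
        (Nat.ble lim (tb G Mc Mo ne x ||| 0x8000000000000000)))
      (k (tb G Mc Mo ne x &&& M1)) (Nat.ble lim (tb G Mc Mo ne x)) = 0 := h
    rcases ble_cases (P := (· = 0)) _ _ _ _ h with ⟨-, h⟩ | ⟨h1, h⟩
    · rcases ble_cases (P := (· = 0)) _ _ _ _ h with ⟨-, h⟩ | ⟨h1, h⟩
      · exact ⟨x, rfl, h⟩
      · obtain ⟨u, u1, u2⟩ := ih _ _ h
        refine ⟨u, ?_, u2⟩
        rw [u1, hc, ← hg ne le_rfl x h1, hE, one_smul]
    · refine ⟨_, ?_, h⟩
      rw [hc, ← hg ne le_rfl x (h1.trans Nat.left_le_or), hE, one_smul]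

theorem step_sound {lim : ℕ} (hg : Good y c G Mc Mo ne lim) (hE : y ne = 1) (hc : ∀ x, c (x &&& M1) = c x)
    {b x : ℕ} {k : ℕ → ℕ} (hb : b ≤ ne) (h : step G M1 Mc Mo ne b lim x k = 0) :
    ∃ u, y b • c x = c u ∧ k u = 0 := by
  have h : Bool.rec (motive := fun _ => ℕ)
    (Bool.rec (motive := fun _ => ℕ) 1 (nrm G M1 Mc Mo ne lim 64 (tb G Mc Mo b x &&& M1) k)
      (Nat.ble lim (tb G Mc Mo b x ||| 0x8000000000000000)))
    (k (tb G Mc Mo b x &&& M1)) (Nat.ble lim (tb G Mc Mo b x)) = 0 := h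
  rcases ble_cases (P := (· = 0)) _ _ _ _ h with ⟨-, h⟩ | ⟨h1, h⟩
  · rcases ble_cases (P := (· = 0)) _ _ _ _ h with ⟨-, h⟩ | ⟨h1, h⟩
    · cases h
    · obtain ⟨u, u1, u2⟩ := nrm_sound hg hE hc _ _ _ h
      exact ⟨u, by rw [u1, hc, hg b hb x h1], u2⟩
  · exact ⟨_, by rw [hc, hg b hb x (h1.trans Nat.left_le_or)], h⟩

theorem runS_sound {lim : ℕ} (hg : Good y c G Mc Mo ne lim) (hE : y ne = 1) (hc : ∀ x, c (x &&& M1) = c x)
    {v : List ℕ} (hv : ∀ b ∈ v, b ≤ ne) {e x : ℕ} (h : (runS G M1 Mc Mo ne v).val lim e x = 0) :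
    ev y v • c e = c x := by
  have key : ∀ (v : List ℕ), (∀ b ∈ v, b ≤ ne) → ∀ (f : ℕ → ℕ → ℕ → ℕ) (g : Γ),
      (∀ z, f lim z x = 0 → g • c z = c x) →
      (List.rec (motive := fun _ => (ℕ → ℕ → ℕ → ℕ) → Wr (ℕ → ℕ → ℕ → ℕ))
        (fun f => ⟨fun lim e x => f lim (Nat.land e M1) x⟩)
        (fun b _ ih f => ih (fun lim z x => step G M1 Mc Mo ne b lim z (fun u => f lim u x))) v f).val lim e x = 0 →
      (g * ev y v) • c e = c x := by
    intro v
    induction v with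
    | nil =>
      intro _ f g hf h
      rw [ev_nil, mul_one, ← hc e]; exact hf _ h
    | cons b v ih =>
      intro hv f g hf h
      rw [ev_cons, ← mul_assoc]
      refine ih (fun a ha => hv a (by simp [ha])) _ _ (fun z hz => ?_) h
      obtain ⟨u, u1, u2⟩ := step_sound hg hE hc (hv b (by simp)) hz
      rw [mul_smul, u1, hf u u2]
  have := key v hv _ 1 (fun z hz => by rw [one_smul, (xor_eq_zero' _ _).1 hz]) h
  rwa [one_mul] at this

theorem runF_sound {lim s : ℕ} (hg : Good y c G Mc Mo ne lim) (hc : ∀ x, c (x &&& M1) = c x)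
    (hd : 2 ^ s ∣ lim) (hs : M1 < 2 ^ s)
    {v : List ℕ} (hv : ∀ b ∈ v, b ≤ ne) {e x : ℕ} (hx : x ≠ 0) (h : (runF G M1 Mc Mo v).val lim e x = 0) :
    ev y v • c e = c x := by
  have key : ∀ (v : List ℕ), (∀ b ∈ v, b ≤ ne) → ∀ (f : ℕ → ℕ → ℕ → ℕ) (g : Γ),
      (∀ z, f lim z x = 0 → z ≠ 0 ∧ g • c z = c x) →
      (List.rec (motive := fun _ => (ℕ → ℕ → ℕ → ℕ) → Wr (ℕ → ℕ → ℕ → ℕ)) Wr.mk
        (fun b _ ih f => ih (fun lim r x => Nat.rec (motive := fun _ => ℕ) (nat_lit 1)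
          (fun n _ => f lim (Nat.sub (Nat.land (Nat.shiftRight (G b n) (Nat.land r Mo))
            (nat_lit 0xffffffffffffffff)) lim) x) (Nat.land r Mc))) v f).val lim e x = 0 →
      (g * ev y v) • c e = c x := by
    intro v
    induction v with
    | nil =>
      intro _ f g hf h
      rw [ev_nil, mul_one]; exact (hf _ h).2
    | cons b v ih =>
      intro hv f g hf h
      rw [ev_cons, ← mul_assoc]
      refine ih (fun a ha => hv a (by simp [ha])) _ _ (fun z hz => ?_) h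
      dsimp only at hz
      cases hn : Nat.land z Mc with
      | zero => rw [hn] at hz; cases hz
      | succ n =>
        rw [hn] at hz
        have e1 : tb G Mc Mo b z = _ := tb_succ hn
        have hz : f lim (((G b n >>> (z &&& Mo)) &&& 0xffffffffffffffff) - lim) x = 0 := hz
        rw [← e1] at hz
        obtain ⟨h1, h2⟩ := hf _ hz
        have h3 : lim ≤ tb G Mc Mo b z := by omega
        refine ⟨?_, ?_⟩
        · rintro rfl
          have : Nat.land 0 Mc = 0 := Nat.zero_and Mc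
          omega
        · rw [mul_smul, hg b (hv b (by simp)) z (h3.trans Nat.left_le_or), ← hc, ← sub_land hd h3 hs, hc, h2]
  have := key v hv _ 1 (fun z hz => by
    have hz : z &&& M1 = x := (xor_eq_zero' _ _).1 hz
    refine ⟨?_, by rw [one_smul, ← hz, hc]⟩
    rintro rfl
    exact hx (by rw [← hz, Nat.zero_and])) h
  rwa [one_mul] at this

end

end Cfsg.Agent.TCX
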